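import Groth.Agent.GrFlatLib.Tensor

/-!
# Base change of a map which decomposes into components
-/

set_option autoImplicit false
set_option linter.style.haveILetI false
set_option linter.unusedSectionVars false
set_option backward.isDefEq.respectTransparency false

universe u

open TensorProduct

noncomputable section

namespace Groth.Agent.GrFlatLib

section Exact

variable {S : Type u} [CommRing S] {G P P₀ : Type u} [AddCommGroup G] [Module S G] [AddCommGroup P]
  [Module S P] [AddCommGroup P₀] [Module S P₀] (f : G →ₗ[S] P) (g : P →ₗ[S] P₀)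
  (R : Type u) [CommRing R] [Algebra S R]

theorem baseChange_surjective (hg : Function.Surjective g) : Function.Surjective (g.baseChange R) :=
  LinearMap.lTensor_surjective R hg

theorem exact_range_baseChange (hex : Function.Exact f g) (hg : Function.Surjective g) :
    Function.Exact (LinearMap.range (f.baseChange R)).subtype (g.baseChange R) := by
  intro y
  refine (lTensor_exact R hex hg y).trans ?_
  exact ⟨fun ⟨x, hx⟩ => ⟨⟨y, x, hx⟩, rfl⟩, by rintro ⟨⟨_, x, rfl⟩, rfl⟩; exact ⟨x, rfl⟩⟩

theorem flat_range_baseChange (hex : Function.Exact f g) (hg : Function.Surjective g)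
    [Module.Flat R (R ⊗[S] P)] [Module.Flat R (R ⊗[S] P₀)] :
    Module.Flat R (LinearMap.range (f.baseChange R)) :=
  CAlgBasics.flat_ker_of_exact (M' := LinearMap.range (f.baseChange R)) Subtype.val_injective (exact_range_baseChange f g R hex hg)
    (baseChange_surjective g R hg)

theorem flat_of_flat_range (hex : Function.Exact f g) (hg : Function.Surjective g)
    [Module.Flat R (LinearMap.range (f.baseChange R))] [Module.Flat R (R ⊗[S] P₀)] :
    Module.Flat R (R ⊗[S] P) :=
  CAlgBasics.flat_of_exact (M' := LinearMap.range (f.baseChange R)) Subtype.val_injective (exact_range_baseChange f g R hex hg)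
    (baseChange_surjective g R hg)

theorem ker_le_of_exact (hex : Function.Exact f g) (hg : Function.Surjective g)
    [Module.Flat R (R ⊗[S] P₀)] (R' : Type u) [CommRing R'] [Algebra S R'] [Algebra R R']
    [IsScalarTower S R R'] :
    LinearMap.ker (f.baseChange R') ≤
      Submodule.span R' (bc R R' G '' (LinearMap.ker (f.baseChange R) : Set (R ⊗[S] G))) :=
  ker_baseChange_le f (LinearMap.lTensor_injective_of_exact_of_flat (M := LinearMap.range (f.baseChange R))
    _ (baseChange_surjective g R hg) _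
    Subtype.val_injective (exact_range_baseChange f g R hex hg) R')

end Exact

section Components

variable {S : Type u} [CommRing S] {N V : Type u} [AddCommGroup N] [Module S N] [AddCommGroup V]
  [Module S V] {G P : ℕ → Type u} [∀ k, AddCommGroup (G k)] [∀ k, Module S (G k)]
  [∀ k, AddCommGroup (P k)] [∀ k, Module S (P k)]

/-- A map which decomposes into components. -/
structure Comp (ι : N →ₗ[S] V) (f : ∀ k, G k →ₗ[S] P k) where
  iN : ∀ k, G k →ₗ[S] N
  pN : ∀ k, N →ₗ[S] G k
  iV : ∀ k, P k →ₗ[S] V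
  pV : ∀ k, V →ₗ[S] P k
  comm_i : ∀ k, ι ∘ₗ iN k = iV k ∘ₗ f k
  comm_p : ∀ k, f k ∘ₗ pN k = pV k ∘ₗ ι
  pN_iN : ∀ k, pN k ∘ₗ iN k = LinearMap.id
  dN : Decomp iN pN
  dV : Decomp iV pV

variable {ι : N →ₗ[S] V} {f : ∀ k, G k →ₗ[S] P k} (c : Comp ι f)
  (R : Type u) [CommRing R] [Algebra S R]

theorem Comp.p_comm (k : ℕ) (x : R ⊗[S] N) :
    (f k).baseChange R ((c.pN k).baseChange R x) = (c.pV k).baseChange R (ι.baseChange R x) := by
  rw [← LinearMap.comp_apply, ← LinearMap.baseChange_comp, c.comm_p, LinearMap.baseChange_comp,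
    LinearMap.comp_apply]

theorem Comp.i_comm (k : ℕ) (x : R ⊗[S] G k) :
    ι.baseChange R ((c.iN k).baseChange R x) = (c.iV k).baseChange R ((f k).baseChange R x) := by
  rw [← LinearMap.comp_apply, ← LinearMap.baseChange_comp, c.comm_i, LinearMap.baseChange_comp,
    LinearMap.comp_apply]

theorem Comp.p_i (k : ℕ) (x : R ⊗[S] G k) : (c.pN k).baseChange R ((c.iN k).baseChange R x) = x := by
  rw [← LinearMap.comp_apply, ← LinearMap.baseChange_comp, c.pN_iN, LinearMap.baseChange_id, LinearMap.id_apply]

theorem Comp.decomp : Decomp (fun k => (c.iN k).baseChange R) (fun k => (c.pN k).baseChange R) :=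
  fun v => c.dN.lTensor R v

theorem Comp.p_mem (k : ℕ) {x : R ⊗[S] N} (hx : x ∈ LinearMap.ker (ι.baseChange R)) :
    (c.pN k).baseChange R x ∈ LinearMap.ker ((f k).baseChange R) := by
  rw [LinearMap.mem_ker, c.p_comm, LinearMap.mem_ker.mp hx, map_zero]

theorem Comp.i_mem (k : ℕ) {x : R ⊗[S] G k} (hx : x ∈ LinearMap.ker ((f k).baseChange R)) :
    (c.iN k).baseChange R x ∈ LinearMap.ker (ι.baseChange R) := by
  rw [LinearMap.mem_ker, c.i_comm, LinearMap.mem_ker.mp hx, map_zero]

/-- The component map on images. -/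
def Comp.pRange (k : ℕ) : LinearMap.range (ι.baseChange R) →ₗ[R] LinearMap.range ((f k).baseChange R) :=
  LinearMap.codRestrict _ ((c.pV k).baseChange R ∘ₗ (LinearMap.range (ι.baseChange R)).subtype)
    (by rintro ⟨_, x, rfl⟩; exact ⟨_, c.p_comm R k x⟩)

/-- The inclusion map on images. -/
def Comp.iRange (k : ℕ) : LinearMap.range ((f k).baseChange R) →ₗ[R] LinearMap.range (ι.baseChange R) :=
  LinearMap.codRestrict _ ((c.iV k).baseChange R ∘ₗ (LinearMap.range ((f k).baseChange R)).subtype)
    (by rintro ⟨_, x, rfl⟩; exact ⟨_, c.i_comm R k x⟩)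

include c in
theorem Comp.flat_range (h : ∀ k, Module.Flat R (LinearMap.range ((f k).baseChange R))) :
    Module.Flat R (LinearMap.range (ι.baseChange R)) := by
  refine Decomp.flat (V := LinearMap.range (ι.baseChange R)) (Vk := fun k => LinearMap.range ((f k).baseChange R))
    (i := c.iRange R) (p := c.pRange R) (fun v => ?_) h
  obtain ⟨t, ht⟩ := c.dV.lTensor R v.1
  exact ⟨t, fun t' h' => Subtype.ext
    ((map_sum (LinearMap.range (ι.baseChange R)).subtype _ _).trans (ht t' h'))⟩

include c in
theorem Comp.flat_component [Module.Flat R (LinearMap.range (ι.baseChange R))] (k : ℕ) :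
    Module.Flat R (LinearMap.range ((f k).baseChange R)) := by
  refine Module.Flat.of_retract (c.iRange R k) (c.pRange R k) (LinearMap.ext fun y => Subtype.ext ?_)
  obtain ⟨_, x, rfl⟩ := y
  show (c.pV k).baseChange R ((c.iV k).baseChange R ((f k).baseChange R x)) = (f k).baseChange R x
  rw [← c.i_comm, ← c.p_comm, c.p_i]

variable (R' : Type u) [CommRing R'] [Algebra S R'] [Algebra R R'] [IsScalarTower S R R']

theorem Comp.map_i_span_le (k : ℕ) :
    (Submodule.span R' (bc R R' _ '' (LinearMap.ker ((f k).baseChange R) : Set (R ⊗[S] G k)))).map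
        ((c.iN k).baseChange R') ≤
      Submodule.span R' (bc R R' _ '' (LinearMap.ker (ι.baseChange R) : Set (R ⊗[S] N))) := by
  rw [Submodule.map_span, Submodule.span_le]
  rintro _ ⟨_, ⟨y, hy, rfl⟩, rfl⟩
  exact Submodule.subset_span ⟨_, c.i_mem R k hy, bc_natural _ y⟩

include c in
theorem Comp.ker_le (h : ∀ k, LinearMap.ker ((f k).baseChange R') ≤
      Submodule.span R' (bc R R' _ '' (LinearMap.ker ((f k).baseChange R) : Set (R ⊗[S] G k)))) :
    LinearMap.ker (ι.baseChange R') ≤
      Submodule.span R' (bc R R' _ '' (LinearMap.ker (ι.baseChange R) : Set (R ⊗[S] N))) :=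
  fun _ hx => (c.decomp R').mem fun k => c.map_i_span_le R R' k
    (Submodule.mem_map_of_mem (h k (c.p_mem R' k hx)))

end Components

section Low

variable {S C : Type u} [CommRing S] [CommRing C] [Algebra S C] {N V : Type u} [AddCommGroup N]
  [Module C N] [Module S N] [IsScalarTower S C N] [AddCommGroup V] [Module S V] {G P : ℕ → Type u}
  [∀ k, AddCommGroup (G k)] [∀ k, Module S (G k)] [∀ k, AddCommGroup (P k)] [∀ k, Module S (P k)]
  {ι : N →ₗ[S] V} {f : ∀ k, G k →ₗ[S] P k} (c : Comp ι f)

variable (C) in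
/-- The span of the kernels of the components of low degree. -/
def Comp.low (d : ℕ) (R : Type u) [CommRing R] [Algebra S R] : Submodule R (R ⊗[S] N) :=
  cspan (C := C) R {x | ∃ j ≤ d, ∃ y ∈ LinearMap.ker ((f j).baseChange R), (c.iN j).baseChange R y = x}

theorem Comp.low_mono {d d' : ℕ} (h : d ≤ d') (R : Type u) [CommRing R] [Algebra S R] :
    c.low C d R ≤ c.low C d' R :=
  cspan_le R fun b _ ⟨j, hj, y, hy, hx⟩ => cs_mem_cspan R _ b ⟨j, hj.trans h, y, hy, hx⟩

theorem Comp.bc_low_le (d : ℕ) (R R' : Type u) [CommRing R] [Algebra S R] [CommRing R'] [Algebra S R']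
    [Algebra R R'] [IsScalarTower S R R'] :
    Submodule.span R' (bc R R' _ '' (c.low C d R : Set (R ⊗[S] N))) ≤ c.low C d R' := by
  refine Submodule.span_le.mpr ?_
  rintro _ ⟨x, hx, rfl⟩
  refine (?_ : c.low C d R ≤ ((c.low C d R').restrictScalars R).comap (bc R R' _)) hx
  refine cspan_le R ?_
  rintro b _ ⟨j, hj, y, hy, rfl⟩
  show bc R R' _ (cs R b ((c.iN j).baseChange R y)) ∈ c.low C d R'
  rw [bc_cs, bc_natural]
  exact cs_mem_cspan R' _ b ⟨j, hj, _, bc_ker_le _ hy, rfl⟩

theorem Comp.exists_degree (R : Type u) [CommRing R] [Algebra S R] (Gs : Finset (R ⊗[S] N))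
    (hG : (Gs : Set (R ⊗[S] N)) ⊆ LinearMap.ker (ι.baseChange R)) :
    ∃ d, cspan (C := C) R (Gs : Set (R ⊗[S] N)) ≤ c.low C d R := by
  classical
  choose t ht using fun x => c.decomp R x
  refine ⟨(Gs.biUnion t).sup id, cspan_le R fun b g hg => ?_⟩
  rw [← ht g (t g) subset_rfl, map_sum]
  exact sum_mem fun j hj => cs_mem_cspan R _ b ⟨j,
    Finset.le_sup (f := id) (Finset.mem_biUnion.mpr ⟨g, hg, hj⟩), _, c.p_mem R j (hG hg), rfl⟩

theorem Comp.ker_le_low {d : ℕ} (R R' : Type u) [CommRing R] [Algebra S R] [CommRing R'] [Algebra S R']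
    [Algebra R R'] [IsScalarTower S R R']
    (h : LinearMap.ker (ι.baseChange R') ≤
      Submodule.span R' (bc R R' N '' (LinearMap.ker (ι.baseChange R) : Set (R ⊗[S] N))))
    (hd : LinearMap.ker (ι.baseChange R) ≤ c.low C d R) :
    LinearMap.ker (ι.baseChange R') ≤ c.low C d R' :=
  (h.trans (Submodule.span_mono (Set.image_mono hd))).trans (c.bc_low_le d R R')

/-- On every ring over `R` where the kernel is spanned in low degree, it is spanned by the kernel over `R`. -/
theorem Comp.ker_component_le {d : ℕ} (R R' : Type u) [CommRing R] [Algebra S R] [CommRing R'] [Algebra S R']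
    [Algebra R R'] [IsScalarTower S R R']
    (hstab : ∀ (b : C), ∀ x ∈ LinearMap.ker (ι.baseChange R), cs R b x ∈ LinearMap.ker (ι.baseChange R))
    (hlow : ∀ j ≤ d, LinearMap.ker ((f j).baseChange R') ≤
      Submodule.span R' (bc R R' _ '' (LinearMap.ker ((f j).baseChange R) : Set (R ⊗[S] G j))))
    (hker : LinearMap.ker (ι.baseChange R') ≤ c.low C d R') (k : ℕ) :
    LinearMap.ker ((f k).baseChange R') ≤ (Submodule.span R'
      (bc R R' N '' (LinearMap.ker (ι.baseChange R) : Set (R ⊗[S] N)))).map ((c.pN k).baseChange R') := by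
  let E := Submodule.span R' (bc R R' N '' (LinearMap.ker (ι.baseChange R) : Set (R ⊗[S] N)))
  have hE : ∀ (b : C), ∀ x ∈ E, cs R' b x ∈ E := fun b x hx => by
    refine (?_ : E ≤ E.comap (cs R' b)) hx
    refine Submodule.span_le.mpr ?_
    rintro _ ⟨y, hy, rfl⟩
    rw [SetLike.mem_coe, Submodule.mem_comap, ← bc_cs]
    exact Submodule.subset_span ⟨_, hstab b y hy, rfl⟩
  have hle : c.low C d R' ≤ E := by
    refine cspan_le R' ?_
    rintro b _ ⟨j, hj, y, hy, rfl⟩
    exact hE b _ (c.map_i_span_le R R' j (Submodule.mem_map_of_mem (hlow j hj hy)))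
  exact fun x hx => ⟨_, hle (hker (c.i_mem R' k hx)), c.p_i R' k x⟩

theorem cs_span_bc_mem {C' : Type u} [CommRing C'] [Algebra S C'] [Algebra C' C] [IsScalarTower S C' C]
    (R R' : Type u) [CommRing R] [Algebra S R] [CommRing R'] [Algebra S R']
    [Algebra R R'] [IsScalarTower S R R'] (T : Set (R ⊗[S] N)) (hT : ∀ (b : C), ∀ x ∈ T, cs R b x ∈ T)
    (b : C') {x : R' ⊗[S] N} (hx : x ∈ Submodule.span R' (bc R R' N '' T)) :
    cs R' (algebraMap C' C b) x ∈ Submodule.span R' (bc R R' N '' T) := by
  refine (?_ : Submodule.span R' (bc R R' N '' T) ≤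
    (Submodule.span R' (bc R R' N '' T)).comap (cs R' (algebraMap C' C b))) hx
  refine Submodule.span_le.mpr ?_
  rintro _ ⟨y, hy, rfl⟩
  rw [SetLike.mem_coe, Submodule.mem_comap, ← bc_cs]
  exact Submodule.subset_span ⟨_, hT _ y hy, rfl⟩

theorem Comp.map_p_le (R R' : Type u) [CommRing R] [Algebra S R] [CommRing R'] [Algebra S R']
    [Algebra R R'] [IsScalarTower S R R'] (k : ℕ) :
    (Submodule.span R' (bc R R' N '' (LinearMap.ker (ι.baseChange R) : Set (R ⊗[S] N)))).map
      ((c.pN k).baseChange R') ≤ LinearMap.ker ((f k).baseChange R') := by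
  rintro _ ⟨x, hx, rfl⟩
  refine c.p_mem R' k ((Submodule.span_le.mpr ?_) hx)
  rintro _ ⟨y, hy, rfl⟩
  exact bc_ker_le _ hy

theorem Comp.bc_map_p_le (R A R' : Type u) [CommRing R] [Algebra S R] [CommRing A] [Algebra S A]
    [CommRing R'] [Algebra S R'] [Algebra R R'] [Algebra A R'] [Algebra R A] [IsScalarTower R A R']
    [IsScalarTower S R R'] [IsScalarTower S A R'] [IsScalarTower S R A] (k : ℕ) :
    (Submodule.span R' (bc R R' N '' (LinearMap.ker (ι.baseChange R) : Set (R ⊗[S] N)))).map
        ((c.pN k).baseChange R') ≤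
      Submodule.span R' (bc A R' _ '' ((Submodule.span A
        (bc R A N '' (LinearMap.ker (ι.baseChange R) : Set (R ⊗[S] N)))).map ((c.pN k).baseChange A) :
          Set (A ⊗[S] G k))) := by
  rw [Submodule.map_span, Submodule.span_le]
  rintro _ ⟨_, ⟨y, hy, rfl⟩, rfl⟩
  rw [SetLike.mem_coe, ← bc_bc (R := R) (R' := A) (R'' := R'), ← bc_natural]
  exact Submodule.subset_span ⟨_, Submodule.mem_map_of_mem (Submodule.subset_span ⟨y, hy, rfl⟩), rfl⟩

theorem Comp.piece_le {B : Type u} [CommRing B] [Algebra S B] [Algebra B C] [IsScalarTower S B C]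
    {d : ℕ} (R A : Type u) [CommRing R] [Algebra S R] [CommRing A] [Algebra S A] [Algebra R A]
    [IsScalarTower S R A] (k : ℕ) [Module B (G k)] [IsScalarTower S B (G k)] [Module B (P k)]
    [IsScalarTower S B (P k)] (fB : G k →ₗ[B] P k) (hfB : fB.restrictScalars S = f k)
    (hflat : Module.Flat A (LinearMap.range ((f k).baseChange A)))
    (hcs : ∀ (b : B) (x : A ⊗[S] N),
      (c.pN k).baseChange A (cs A (algebraMap B C b) x) = cs A b ((c.pN k).baseChange A x))
    (hstab : ∀ (b : C), ∀ x ∈ LinearMap.ker (ι.baseChange R), cs R b x ∈ LinearMap.ker (ι.baseChange R))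
    (Gs : Finset (A ⊗[S] G k)) (hGs : (Gs : Set (A ⊗[S] G k)) ⊆ LinearMap.ker ((f k).baseChange A))
    (hgen : LinearMap.ker ((f k).baseChange A) ≤ cspan (C := B) A (Gs : Set (A ⊗[S] G k)))
    (hlow : ∀ (κ : Type u) [Field κ] [Algebra S κ] [Algebra R κ] [IsScalarTower S R κ],
      ∀ j ≤ d, LinearMap.ker ((f j).baseChange κ) ≤
        Submodule.span κ (bc R κ _ '' (LinearMap.ker ((f j).baseChange R) : Set (R ⊗[S] G j))))
    (hker : ∀ (κ : Type u) [Field κ] [Algebra S κ], LinearMap.ker (ι.baseChange κ) ≤ c.low C d κ) :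
    LinearMap.ker ((f k).baseChange A) ≤ (Submodule.span A
      (bc R A N '' (LinearMap.ker (ι.baseChange R) : Set (R ⊗[S] N)))).map ((c.pN k).baseChange A) := by
  have hmap := c.map_p_le R A k
  rw [← hfB] at hGs hgen hflat hmap ⊢
  haveI := hflat
  refine ker_le_of_fibres (S := S) (C := B) A fB _ hmap ?_ Gs hGs hgen fun κ _ _ _ _ => ?_
  · rintro b _ ⟨x, hx, rfl⟩
    exact ⟨_, cs_span_bc_mem R A _ hstab b hx, hcs b x⟩
  letI : Algebra R κ := ((algebraMap A κ).comp (algebraMap R A)).toAlgebra
  haveI : IsScalarTower R A κ := .of_algebraMap_eq fun _ => rfl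
  haveI : IsScalarTower S R κ := .of_algebraMap_eq fun r => by
    rw [IsScalarTower.algebraMap_apply S A κ, IsScalarTower.algebraMap_apply S R A,
      ← IsScalarTower.algebraMap_apply R A κ]
  rw [hfB]
  exact (c.ker_component_le R κ hstab (hlow κ) (hker κ) k).trans (c.bc_map_p_le R A κ k)

include c in
theorem Comp.ker_le_of_components (R R' : Type u) [CommRing R] [Algebra S R] [CommRing R'] [Algebra S R']
    [Algebra R R'] [IsScalarTower S R R']
    (h : ∀ k, LinearMap.ker ((f k).baseChange R') ≤
      (Submodule.span R' (bc R R' N '' (LinearMap.ker (ι.baseChange R) : Set (R ⊗[S] N)))).map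
        ((c.pN k).baseChange R')) :
    LinearMap.ker (ι.baseChange R') ≤
      Submodule.span R' (bc R R' N '' (LinearMap.ker (ι.baseChange R) : Set (R ⊗[S] N))) := by
  intro x hx
  refine (c.decomp R').mem fun k => ?_
  obtain ⟨e, he, hek⟩ := h k (c.p_mem R' k hx)
  rw [← hek]
  refine (?_ : Submodule.span R' (bc R R' N '' (LinearMap.ker (ι.baseChange R) : Set (R ⊗[S] N))) ≤
    (Submodule.span R' (bc R R' N '' (LinearMap.ker (ι.baseChange R) : Set (R ⊗[S] N)))).comap
      (((c.iN k).baseChange R') ∘ₗ ((c.pN k).baseChange R'))) he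
  refine Submodule.span_le.mpr ?_
  rintro _ ⟨y, hy, rfl⟩
  rw [SetLike.mem_coe, Submodule.mem_comap, LinearMap.comp_apply, ← bc_natural, ← bc_natural]
  exact Submodule.subset_span ⟨_, c.i_mem R k (c.p_mem R k hy), rfl⟩

end Low

section Image

variable {S : Type u} [CommRing S] {N V : Type u} [AddCommGroup N] [Module S N] [AddCommGroup V]
  [Module S V] (ι : N →ₗ[S] V) (R R' : Type u) [CommRing R] [Algebra S R] [CommRing R'] [Algebra S R']
  [Algebra R R'] [IsScalarTower S R R']

theorem baseChange_rangeRestrict_cancel (y : R' ⊗[R] (R ⊗[S] N)) :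
    AlgebraTensorModule.cancelBaseChange S R R' R' V
        ((LinearMap.range (ι.baseChange R)).subtype.baseChange R'
          ((ι.baseChange R).rangeRestrict.baseChange R' y)) =
      ι.baseChange R' (AlgebraTensorModule.cancelBaseChange S R R' R' N y) := by
  refine Eq.trans ?_ (cancel_natural ι y)
  rw [← LinearMap.comp_apply, ← LinearMap.baseChange_comp, LinearMap.subtype_comp_codRestrict]

/-- If the base change of the image stays embedded, it is the image over the new ring. -/
theorem flat_range_of_injective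
    (hinj : Function.Injective ((LinearMap.range (ι.baseChange R)).subtype.lTensor R'))
    [Module.Flat R' (R' ⊗[R] LinearMap.range (ι.baseChange R))] :
    Module.Flat R' (LinearMap.range (ι.baseChange R')) := by
  let e := AlgebraTensorModule.cancelBaseChange S R R' R' V
  let φ := e.toLinearMap ∘ₗ (LinearMap.range (ι.baseChange R)).subtype.baseChange R'
  have hrr : Function.Surjective ((ι.baseChange R).rangeRestrict.baseChange R') :=
    LinearMap.lTensor_surjective R' (ι.baseChange R).surjective_rangeRestrict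
  have hφ : ∀ w, φ w ∈ LinearMap.range (ι.baseChange R') := fun w => by
    obtain ⟨y, rfl⟩ := hrr w
    exact ⟨_, (baseChange_rangeRestrict_cancel ι R R' y).symm⟩
  refine Module.Flat.of_linearEquiv (M := R' ⊗[R] LinearMap.range (ι.baseChange R))
    (LinearEquiv.ofBijective (φ.codRestrict _ hφ) ⟨?_, ?_⟩).symm
  · exact fun a b hab => hinj (e.injective (congrArg Subtype.val hab))
  · rintro ⟨_, x, rfl⟩
    obtain ⟨y, rfl⟩ := (AlgebraTensorModule.cancelBaseChange S R R' R' N).surjective x
    exact ⟨_, Subtype.ext (baseChange_rangeRestrict_cancel ι R R' y)⟩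

theorem flat_tensor_range_of_injective
    (hinj : Function.Injective ((LinearMap.range (ι.baseChange R)).subtype.lTensor R'))
    [Module.Flat R' (LinearMap.range (ι.baseChange R'))] :
    Module.Flat R' (R' ⊗[R] LinearMap.range (ι.baseChange R)) := by
  let e := AlgebraTensorModule.cancelBaseChange S R R' R' V
  let φ := e.toLinearMap ∘ₗ (LinearMap.range (ι.baseChange R)).subtype.baseChange R'
  have hrr : Function.Surjective ((ι.baseChange R).rangeRestrict.baseChange R') :=
    LinearMap.lTensor_surjective R' (ι.baseChange R).surjective_rangeRestrict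
  have hφ : ∀ w, φ w ∈ LinearMap.range (ι.baseChange R') := fun w => by
    obtain ⟨y, rfl⟩ := hrr w
    exact ⟨_, (baseChange_rangeRestrict_cancel ι R R' y).symm⟩
  refine Module.Flat.of_linearEquiv (M := LinearMap.range (ι.baseChange R'))
    (LinearEquiv.ofBijective (φ.codRestrict _ hφ) ⟨?_, ?_⟩)
  · exact fun a b hab => hinj (e.injective (congrArg Subtype.val hab))
  · rintro ⟨_, x, rfl⟩
    obtain ⟨y, rfl⟩ := (AlgebraTensorModule.cancelBaseChange S R R' R' N).surjective x
    exact ⟨_, Subtype.ext (baseChange_rangeRestrict_cancel ι R R' y)⟩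

theorem range_lTensor_injective_of_ker_le
    (h : LinearMap.ker (ι.baseChange R') ≤
      Submodule.span R' (bc R R' N '' (LinearMap.ker (ι.baseChange R) : Set (R ⊗[S] N)))) :
    Function.Injective ((LinearMap.range (ι.baseChange R)).subtype.lTensor R') := by
  rw [injective_iff_map_eq_zero]
  intro w hw
  obtain ⟨y, rfl⟩ := LinearMap.lTensor_surjective R' (ι.baseChange R).surjective_rangeRestrict w
  let e := AlgebraTensorModule.cancelBaseChange S R R' R' N
  have h1 : e y ∈ LinearMap.ker (ι.baseChange R') := by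
    rw [LinearMap.mem_ker, ← baseChange_rangeRestrict_cancel]
    refine (map_eq_zero_iff _ (LinearEquiv.injective _)).mpr ?_
    exact hw
  have hle : Submodule.span R' (bc R R' N '' (LinearMap.ker (ι.baseChange R) : Set (R ⊗[S] N))) ≤
      (LinearMap.ker ((ι.baseChange R).rangeRestrict.baseChange R')).map e.toLinearMap := by
    refine Submodule.span_le.mpr ?_
    rintro _ ⟨z, hz, rfl⟩
    refine ⟨1 ⊗ₜ z, ?_, by rw [LinearEquiv.coe_coe, cancel_tmul, one_smul]⟩
    rw [SetLike.mem_coe, LinearMap.mem_ker, LinearMap.baseChange_tmul,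
      show (ι.baseChange R).rangeRestrict z = 0 from Subtype.ext hz, TensorProduct.tmul_zero]
  obtain ⟨y', hy', he⟩ := hle (h h1)
  rw [← e.injective he]
  exact hy'

/-- An image which is flat and stays embedded in a flat way stays embedded below. -/
theorem injective_of_injective_above (A : Type u) [CommRing A] [Algebra R A] [Algebra R' A]
    [IsScalarTower R R' A] {X Y : Type u} [AddCommMonoid X] [Module R X] [AddCommMonoid Y] [Module R Y]
    (j : X →ₗ[R] Y) [Module.Flat R' (R' ⊗[R] X)] (hRA : Function.Injective (algebraMap R' A))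
    (hj : Function.Injective (j.lTensor A)) : Function.Injective (j.lTensor R') := by
  let φ : R' →ₗ[R] A := (IsScalarTower.toAlgHom R R' A).toLinearMap
  have h1 : Function.Injective (φ.rTensor X) := by
    have h2 := Module.Flat.rTensor_preserves_injective_linearMap (M := R' ⊗[R] X)
      (Algebra.linearMap R' A) hRA
    have h3 : ∀ x, φ.rTensor X x = AlgebraTensorModule.cancelBaseChange R R' R' A X
        ((Algebra.linearMap R' A).rTensor (R' ⊗[R] X) ((1 : R') ⊗ₜ[R'] x)) := fun x => by
      induction x with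
      | zero => simp
      | tmul r n => simp [φ, Algebra.smul_def]
      | add x y hx hy => simp only [map_add, hx, hy, TensorProduct.tmul_add]
    intro a b hab
    rw [h3, h3] at hab
    have h4 := h2 ((AlgebraTensorModule.cancelBaseChange R R' R' A X).injective hab)
    exact (TensorProduct.lid R' (R' ⊗[R] X)).symm.injective h4
  intro a b hab
  apply h1
  apply hj
  rw [← LinearMap.comp_apply, LinearMap.lTensor_comp_rTensor, ← LinearMap.rTensor_comp_lTensor,
    LinearMap.comp_apply, hab]
  rw [← LinearMap.comp_apply, LinearMap.rTensor_comp_lTensor, ← LinearMap.lTensor_comp_rTensor,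
    LinearMap.comp_apply]

end Image

theorem injective_lTensor_subalgebra {R A : Type u} [CommRing R] [CommRing A] [Algebra R A]
    (T : Subalgebra R A) {X Y : Type u} [AddCommMonoid X] [Module R X] [AddCommMonoid Y] [Module R Y]
    (j : X →ₗ[R] Y) [Module.Flat T (T ⊗[R] X)] (hj : Function.Injective (j.lTensor A)) :
    Function.Injective (j.lTensor T) :=
  injective_of_injective_above R T A j Subtype.val_injective hj

end Groth.Agent.GrFlatLib
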