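import Groth.Agent.GrFlatLib.Descend
import Groth.Agent.FibreDepth.Descent
import Groth.Agent.LocFlat.Fibre

/-!
# A Noetherian model for the truncations of a finitely presented module
-/

set_option autoImplicit false
set_option linter.style.haveILetI false
set_option linter.unusedSectionVars false

universe u

open TensorProduct Groth.Agent.GenFree

noncomputable section

namespace Groth.Agent.GrFlatLib

section Quot

variable (R' : Type u) {R M : Type u} [CommRing R] [CommRing R'] [Algebra R R'] [AddCommGroup M] [Module R M]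
  (I : Ideal R)

theorem ker_baseChange_mkQ (T : Submodule R M) :
    LinearMap.ker (T.mkQ.baseChange R') = LinearMap.range (T.subtype.baseChange R') :=
  Submodule.ext fun x => lTensor_exact R' (LinearMap.exact_subtype_mkQ T) T.mkQ_surjective x

theorem range_baseChange_smul_top :
    LinearMap.range ((I • (⊤ : Submodule R M)).subtype.baseChange R') =
      I.map (algebraMap R R') • (⊤ : Submodule R' (R' ⊗[R] M)) := by
  refine le_antisymm ?_ ?_
  · rintro _ ⟨x, rfl⟩
    induction x with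
    | zero => rw [map_zero]; exact zero_mem _
    | tmul r m =>
      obtain ⟨m, hm⟩ := m
      rw [LinearMap.baseChange_tmul]
      show r ⊗ₜ[R] m ∈ _
      induction hm using Submodule.smul_induction_on' with
      | smul a ha m _ =>
        rw [TensorProduct.tmul_smul, ← algebraMap_smul R' a (r ⊗ₜ[R] m)]
        exact Submodule.smul_mem_smul (Ideal.mem_map_of_mem _ ha) trivial
      | add a _ b _ ha hb => rw [TensorProduct.tmul_add]; exact add_mem ha hb
    | add x y hx hy => rw [map_add]; exact add_mem hx hy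
  · rw [Ideal.map, Submodule.span_smul_eq, Submodule.set_smul_le_iff]
    rintro _ x ⟨a, ha, rfl⟩ -
    induction x with
    | zero => rw [smul_zero]; exact zero_mem _
    | tmul r m =>
      rw [algebraMap_smul, TensorProduct.smul_tmul', TensorProduct.smul_tmul]
      exact ⟨r ⊗ₜ ⟨a • m, Submodule.smul_mem_smul ha trivial⟩, rfl⟩
    | add x y hx hy => rw [smul_add]; exact add_mem hx hy

/-- Base change commutes with reduction modulo an ideal. -/
def quotSMulEquiv : R' ⊗[R] (M ⧸ (I • (⊤ : Submodule R M))) ≃ₗ[R']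
    (R' ⊗[R] M) ⧸ (I.map (algebraMap R R') • (⊤ : Submodule R' (R' ⊗[R] M))) :=
  (LinearMap.quotKerEquivOfSurjective ((I • (⊤ : Submodule R M)).mkQ.baseChange R')
      (LinearMap.lTensor_surjective R' (Submodule.mkQ_surjective _))).symm.trans
    (Submodule.quotEquivOfEq _ _ ((ker_baseChange_mkQ R' _).trans (range_baseChange_smul_top R' I)))

/-- Quotient by the image of a submodule. -/
def quotRangeEquiv {S : Type u} [CommRing S] [Algebra S R'] {N : Type u} [AddCommGroup N] [Module S N]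
    (T : Submodule S N) : ((R' ⊗[S] N) ⧸ LinearMap.range (T.subtype.baseChange R')) ≃ₗ[R'] R' ⊗[S] (N ⧸ T) :=
  (Submodule.quotEquivOfEq _ _ (ker_baseChange_mkQ R' T).symm).trans
    (LinearMap.quotKerEquivOfSurjective _ (LinearMap.lTensor_surjective R' T.mkQ_surjective))

end Quot

section Trunc

/-- The truncations of a base change. -/
theorem nonempty_truncEquiv {S A₀ B P B₀ : Type u} [CommRing S] [CommRing A₀] [CommRing B] [CommRing P]
    [CommRing B₀] [Algebra S A₀] [Algebra S B] [Algebra B P] [Algebra A₀ P] [Algebra S P]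
    [IsScalarTower S A₀ P] [IsScalarTower S B P] [Algebra.IsPushout S A₀ B P] [Algebra P B₀]
    (J : Ideal B) (J₀ : Ideal B₀) (hJ : (J.map (algebraMap B P)).map (algebraMap P B₀) = J₀)
    (M : Type u) [AddCommGroup M] [Module B M] [Module S M] [IsScalarTower S B M]
    (M₀ : Type u) [AddCommGroup M₀] [Module B₀ M₀] [Module P M₀] [IsScalarTower P B₀ M₀] [Module A₀ M₀]
    [IsScalarTower A₀ P M₀] [SMul A₀ B₀] [IsScalarTower A₀ B₀ M₀]
    (ε : P ⊗[B] M ≃ₗ[P] M₀) (k : ℕ) :
    Nonempty ((M₀ ⧸ ((J₀ ^ k • (⊤ : Submodule B₀ M₀)).restrictScalars A₀)) ≃ₗ[A₀] A₀ ⊗[S] Q J M k) := by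
  have hsub : Submodule.map ε.toLinearMap ((J ^ k).map (algebraMap B P) • (⊤ : Submodule P (P ⊗[B] M))) =
      (J₀ ^ k • (⊤ : Submodule B₀ M₀)).restrictScalars P := by
    rw [Submodule.map_smul'', Submodule.map_top, LinearEquiv.range]
    ext x
    rw [Submodule.restrictScalars_mem, LocFlat.mem_smul_top_iff (S := B₀), ← hJ, Ideal.map_pow, Ideal.map_pow]
  let e₁ : (M₀ ⧸ ((J₀ ^ k • (⊤ : Submodule B₀ M₀)).restrictScalars A₀)) ≃ₗ[A₀] P ⊗[B] Q J M k :=
    (Submodule.Quotient.restrictScalarsEquiv A₀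
      ((J₀ ^ k • (⊤ : Submodule B₀ M₀)).restrictScalars P)).trans
    (((Submodule.Quotient.equiv _ _ ε hsub).symm.trans (quotSMulEquiv P (J ^ k)).symm).restrictScalars A₀)
  exact ⟨e₁.trans (Algebra.IsPushout.cancelBaseChange S A₀ B P (Q J M k))⟩

end Trunc

section Model

open MvPolynomial

attribute [local instance] Algebra.TensorProduct.rightAlgebra

/-- The module over a surjective image of a base change, read over the base change. -/
theorem exists_semilinear {S A₀ B P B₀ : Type u} [CommRing S] [CommRing A₀] [CommRing B] [CommRing P]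
    [CommRing B₀] [Algebra S A₀] [Algebra S B] [Algebra B P] [Algebra A₀ P] [Algebra S P]
    [IsScalarTower S A₀ P] [IsScalarTower S B P] [Algebra.IsPushout S A₀ B P] [Algebra A₀ B₀]
    (π : P →ₐ[A₀] B₀) (hπ : Function.Surjective π) (J : Ideal B) (J₀ : Ideal B₀)
    (hJ : (J.map (algebraMap B P)).map π.toRingHom = J₀)
    (M : Type u) [AddCommGroup M] [Module B M]
    (M₀ : Type u) [AddCommGroup M₀] [Module B₀ M₀] [Module P M₀]
    (hP : ∀ (p : P) (m : M₀), p • m = π p • m) (ε : P ⊗[B] M ≃ₗ[P] M₀) :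
    ∃ (π' : A₀ ⊗[S] B →ₐ[A₀] B₀) (e : (A₀ ⊗[S] B) ⊗[B] M →+ M₀), Function.Surjective π' ∧
      J.map (π'.toRingHom.comp (algebraMap B (A₀ ⊗[S] B))) = J₀ ∧ Function.Bijective e ∧ ∀ z x, e (z • x) = π' z • e x := by
  let q : (A₀ ⊗[S] B) ≃ₐ[A₀] P := Algebra.IsPushout.equiv S A₀ B P
  have hq : ∀ (r : A₀) (b : B), q (r ⊗ₜ b) = algebraMap A₀ P r * algebraMap B P b :=
    fun r b => Algebra.IsPushout.equiv_tmul S A₀ B P r b
  let qB : (A₀ ⊗[S] B) ≃ₗ[B] P :=
    { q.toAddEquiv with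
      map_smul' := fun b z => by
        show q (b • z) = b • q z
        rw [Algebra.smul_def, map_mul, Algebra.smul_def]
        congr 1
        exact (hq 1 b).trans (by rw [map_one, one_mul]) }
  let e₁ : (A₀ ⊗[S] B) ⊗[B] M ≃ₗ[B] P ⊗[B] M := qB.rTensor M
  refine ⟨π.comp q.toAlgHom, ε.toAddEquiv.toAddMonoidHom.comp e₁.toAddEquiv.toAddMonoidHom,
    hπ.comp q.surjective, ?_, ε.bijective.comp e₁.bijective, fun z x => ?_⟩
  · rw [← hJ, Ideal.map_map]
    congr 1
    refine RingHom.ext fun b => ?_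
    show π (q (algebraMap B (A₀ ⊗[S] B) b)) = π (algebraMap B P b)
    congr 1
    exact (hq 1 b).trans (by rw [map_one, one_mul])
  · show ε (e₁ (z • x)) = π (q z) • ε (e₁ x)
    rw [← hP, ← map_smul ε]
    congr 1
    induction x with
    | zero => rw [smul_zero, map_zero, smul_zero]
    | tmul w m =>
      show qB.rTensor M ((z • w) ⊗ₜ[B] m) = q z • qB.rTensor M (w ⊗ₜ[B] m)
      rw [LinearEquiv.rTensor_tmul, LinearEquiv.rTensor_tmul, TensorProduct.smul_tmul']
      congr 1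
      exact map_mul q z w
    | add a b ha hb => rw [smul_add, map_add, ha, hb, map_add, smul_add]

set_option maxHeartbeats 1000000 in
set_option synthInstance.maxHeartbeats 400000 in
theorem exists_model' {A₀ : Type u} [CommRing A₀] {B₀ : Type u} [CommRing B₀] [Algebra A₀ B₀]
    [Algebra.FinitePresentation A₀ B₀] (J₀ : Ideal B₀) (hJ₀ : J₀.FG)
    (M₀ : Type u) [AddCommGroup M₀] [Module B₀ M₀] [Module A₀ M₀] [IsScalarTower A₀ B₀ M₀]
    [Module.FinitePresentation B₀ M₀] :
    ∃ (S : Type u) (_ : CommRing S) (_ : IsNoetherianRing S) (_ : Algebra S A₀)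
      (B : Type u) (_ : CommRing B) (_ : Algebra S B) (_ : Algebra.FiniteType S B) (J : Ideal B)
      (M : Type u) (_ : AddCommGroup M) (_ : Module B M) (_ : Module S M) (_ : IsScalarTower S B M)
      (_ : Module.Finite B M),
      (∀ k, Nonempty ((M₀ ⧸ ((J₀ ^ k • (⊤ : Submodule B₀ M₀)).restrictScalars A₀)) ≃ₗ[A₀]
        A₀ ⊗[S] Q J M k)) ∧
      ∃ (π : A₀ ⊗[S] B →ₐ[A₀] B₀) (e : (A₀ ⊗[S] B) ⊗[B] M →+ M₀), Function.Surjective π ∧
        J.map (π.toRingHom.comp (algebraMap B (A₀ ⊗[S] B))) = J₀ ∧ Function.Bijective e ∧ ∀ z x, e (z • x) = π z • e x := by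
  classical
  obtain ⟨n, π, hπ, hker⟩ := Algebra.FinitePresentation.out (R := A₀) (A := B₀)
  letI : Algebra (MvPolynomial (Fin n) A₀) B₀ := π.toRingHom.toAlgebra
  haveI : IsScalarTower A₀ (MvPolynomial (Fin n) A₀) B₀ :=
    .of_algebraMap_eq fun r => (π.commutes r).symm
  letI : Module (MvPolynomial (Fin n) A₀) M₀ := Module.compHom M₀ π.toRingHom
  haveI : IsScalarTower (MvPolynomial (Fin n) A₀) B₀ M₀ := .of_algebraMap_smul fun _ _ => rfl
  haveI : IsScalarTower A₀ (MvPolynomial (Fin n) A₀) M₀ := .of_algebraMap_smul fun r m => by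
    show π (algebraMap A₀ (MvPolynomial (Fin n) A₀) r) • m = r • m
    rw [π.commutes, algebraMap_smul]
  haveI : Module.FinitePresentation (MvPolynomial (Fin n) A₀) B₀ :=
    Module.finitePresentation_of_surjective (Algebra.linearMap (MvPolynomial (Fin n) A₀) B₀) hπ hker
  haveI : Module.FinitePresentation (MvPolynomial (Fin n) A₀) M₀ :=
    Module.FinitePresentation.trans (R := MvPolynomial (Fin n) A₀) (S := B₀) (M := M₀)
  obtain ⟨a, K, e, GK, hGK⟩ := Module.FinitePresentation.exists_fin (MvPolynomial (Fin n) A₀) M₀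
  obtain ⟨Gb, hGb⟩ := hJ₀
  let GJ : Finset (MvPolynomial (Fin n) A₀) := Gb.image fun b => (hπ b).choose
  let cs : Set A₀ := (⋃ g ∈ GJ, (g.coeffs : Set A₀)) ∪ ⋃ v ∈ GK, ⋃ i : Fin a, ((v i).coeffs : Set A₀)
  have hcs : cs.Finite := (GJ.finite_toSet.biUnion fun _ _ => Finset.finite_toSet _).union
    (GK.finite_toSet.biUnion fun _ _ => Set.finite_iUnion fun _ => Finset.finite_toSet _)
  let S := Algebra.adjoin ℤ cs
  haveI : Algebra.FiniteType ℤ S :=
    (Subalgebra.fg_iff_finiteType _).1 (Subalgebra.fg_def.mpr ⟨cs, hcs, rfl⟩)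
  haveI : IsNoetherianRing S := Algebra.FiniteType.isNoetherianRing ℤ S
  have hlift : ∀ g : MvPolynomial (Fin n) A₀, (g.coeffs : Set A₀) ⊆ cs →
      ∃ g' : MvPolynomial (Fin n) S, MvPolynomial.map (algebraMap S A₀) g' = g := fun g hg =>
    mem_range_map_iff_coeffs_subset.mpr
      (fun c hc => ⟨⟨c, Algebra.subset_adjoin (hg hc)⟩, rfl⟩)
  have hlJ : ∀ g ∈ GJ, ∃ g' : MvPolynomial (Fin n) S, MvPolynomial.map (algebraMap S A₀) g' = g :=
    fun g hg => hlift g fun c hc => Or.inl (Set.mem_biUnion hg hc)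
  have hlK : ∀ v ∈ GK, ∃ v' : FreeMod S a n, phi A₀ v' = v := fun v hv => by
    choose w hw using fun i => hlift (v i) fun c hc =>
      Or.inr (Set.mem_biUnion hv (Set.mem_iUnion.mpr ⟨i, hc⟩))
    exact ⟨w, funext fun i => (phi_apply A₀ w i).trans (hw i)⟩
  choose jl hjl using hlJ
  choose kl hkl using hlK
  let J : Ideal (MvPolynomial (Fin n) S) := Ideal.span (Set.range fun g : GJ => jl g.1 g.2)
  let N : Submodule (MvPolynomial (Fin n) S) (FreeMod S a n) :=
    Submodule.span _ (Set.range fun v : GK => kl v.1 v.2)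
  have hN : locN A₀ N = K := by
    refine le_antisymm (Submodule.span_le.mpr ?_) (hGK.ge.trans (Submodule.span_le.mpr ?_))
    · rintro _ ⟨v, hv, rfl⟩
      induction hv using Submodule.span_induction with
      | mem x hx =>
        obtain ⟨v, rfl⟩ := hx
        rw [SetLike.mem_coe, hkl, ← hGK]
        exact Submodule.subset_span v.2
      | zero => rw [map_zero]; exact zero_mem _
      | add x y _ _ hx hy => rw [map_add]; exact add_mem hx hy
      | smul p x _ hx => rw [phi_smul]; exact K.smul_mem _ hx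
    · intro v hv
      exact Submodule.subset_span ⟨_, Submodule.subset_span ⟨⟨v, hv⟩, rfl⟩, hkl v hv⟩
  letI : Algebra (MvPolynomial (Fin n) S) (MvPolynomial (Fin n) A₀) := MvPolynomial.algebraMvPolynomial
  have hJ : ((J.map (algebraMap (MvPolynomial (Fin n) S) (MvPolynomial (Fin n) A₀))).map
      (algebraMap (MvPolynomial (Fin n) A₀) B₀)) = J₀ := by
    rw [Ideal.map_map, Ideal.map_span, ← hGb]
    congr 1
    ext b
    constructor
    · rintro ⟨_, ⟨g, rfl⟩, rfl⟩
      obtain ⟨b, hb, hbg⟩ := Finset.mem_image.mp g.2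
      show π (MvPolynomial.map (algebraMap S A₀) (jl g.1 g.2)) ∈ Gb
      rw [hjl, ← hbg, (hπ b).choose_spec]
      exact hb
    · intro hb
      refine ⟨_, ⟨⟨_, Finset.mem_image_of_mem _ hb⟩, rfl⟩, ?_⟩
      show π (MvPolynomial.map (algebraMap S A₀) (jl _ _)) = b
      rw [hjl, (hπ b).choose_spec]
  obtain ⟨η⟩ := FibreDepth.nonempty_baseChange_quot (A₁ := S) (A := A₀) N
  exact ⟨S, inferInstance, inferInstance, inferInstance, MvPolynomial (Fin n) S, inferInstance,
    inferInstance, inferInstance, J, FreeMod S a n ⧸ N, inferInstance, inferInstance, inferInstance,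
    inferInstance, inferInstance, fun k => nonempty_truncEquiv J J₀ hJ (FreeMod S a n ⧸ N) M₀
      ((η.trans (Submodule.quotEquivOfEq _ _ hN)).trans e.symm) k,
    exists_semilinear π hπ J J₀ hJ (FreeMod S a n ⧸ N) M₀ (fun _ _ => rfl)
      ((η.trans (Submodule.quotEquivOfEq _ _ hN)).trans e.symm)⟩

theorem exists_model {A₀ : Type u} [CommRing A₀] {B₀ : Type u} [CommRing B₀] [Algebra A₀ B₀]
    [Algebra.FinitePresentation A₀ B₀] (J₀ : Ideal B₀) (hJ₀ : J₀.FG)
    (M₀ : Type u) [AddCommGroup M₀] [Module B₀ M₀] [Module A₀ M₀] [IsScalarTower A₀ B₀ M₀]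
    [Module.FinitePresentation B₀ M₀] :
    ∃ (S : Type u) (_ : CommRing S) (_ : IsNoetherianRing S) (_ : Algebra S A₀)
      (B : Type u) (_ : CommRing B) (_ : Algebra S B) (_ : Algebra.FiniteType S B) (J : Ideal B)
      (M : Type u) (_ : AddCommGroup M) (_ : Module B M) (_ : Module S M) (_ : IsScalarTower S B M)
      (_ : Module.Finite B M),
      ∀ k, Nonempty ((M₀ ⧸ ((J₀ ^ k • (⊤ : Submodule B₀ M₀)).restrictScalars A₀)) ≃ₗ[A₀]
        A₀ ⊗[S] Q J M k) := by
  obtain ⟨S, i₁, i₂, i₃, B, i₄, i₅, i₆, J, M, i₇, i₈, i₉, i₁₀, i₁₁, h, -⟩ := exists_model' J₀ hJ₀ M₀ (A₀ := A₀)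
  exact ⟨S, i₁, i₂, i₃, B, i₄, i₅, i₆, J, M, i₇, i₈, i₉, i₁₀, i₁₁, h⟩

end Model

/-- The truncations over `R` read over the model. -/
theorem flat_iff_model {A₀ S : Type u} [CommRing A₀] [CommRing S] [Algebra S A₀] {N₀ N : Type u}
    [AddCommGroup N₀] [Module A₀ N₀] [AddCommGroup N] [Module S N] (T : Submodule A₀ N₀)
    (e : (N₀ ⧸ T) ≃ₗ[A₀] A₀ ⊗[S] N) (R : Type u) [CommRing R] [Algebra A₀ R] [Algebra S R]
    [IsScalarTower S A₀ R] :
    Module.Flat R ((R ⊗[A₀] N₀) ⧸ LinearMap.range (T.subtype.baseChange R)) ↔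
      Module.Flat R (R ⊗[S] N) :=
  Module.Flat.equiv_iff ((quotRangeEquiv R T).trans
    ((AlgebraTensorModule.congr (LinearEquiv.refl R R) e).trans
      (AlgebraTensorModule.cancelBaseChange S A₀ R R N)))

/-- A map from an algebra of finite type over a Noetherian ring into a limit lifts to a stage. -/
theorem exists_lift_stage {A₀ A : Type u} [CommRing A₀] [CommRing A] [Algebra A₀ A]
    (Sys : PullbackMod.AlgSystem A₀ A) (j₀ : Sys.J) {S : Type u} [CommRing S] [IsNoetherianRing S]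
    [Algebra S A₀] (R : Type u) [CommRing R] [Algebra S R] [Algebra.FiniteType S R] (φ : R →+* A)
    (hφ : ∀ s, φ (algebraMap S R s) = algebraMap A₀ A (algebraMap S A₀ s)) :
    ∃ (k : Sys.J) (_ : Sys.Hom j₀ k) (ψ : R →+* Sys.R k),
      (∀ s, ψ (algebraMap S R s) = algebraMap A₀ (Sys.R k) (algebraMap S A₀ s)) ∧
        ∀ r, Sys.ρ k (ψ r) = φ r := by
  classical
  obtain ⟨m, π, hπ⟩ := Algebra.FiniteType.iff_quotient_mvPolynomial''.mp ‹Algebra.FiniteType S R›
  have hgen : ∀ t : Finset (Fin m), ∃ (k : Sys.J) (_ : Sys.Hom j₀ k),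
      ∀ i ∈ t, ∃ b : Sys.R k, Sys.ρ k b = φ (π (MvPolynomial.X i)) := by
    intro t
    induction t using Finset.induction with
    | empty =>
      obtain ⟨k, g, -, -⟩ := Sys.surj j₀ 0
      exact ⟨k, g, by simp⟩
    | @insert i t _ ih =>
      obtain ⟨k, g, hk⟩ := ih
      obtain ⟨l, g', b, hb⟩ := Sys.surj k (φ (π (MvPolynomial.X i)))
      obtain ⟨g'', -⟩ := Sys.comp g g'
      refine ⟨l, g'', fun i' hi' => ?_⟩
      rcases Finset.mem_insert.1 hi' with rfl | hi'
      · exact ⟨b, hb⟩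
      · obtain ⟨b', hb'⟩ := hk i' hi'
        exact ⟨Sys.τ g' b', (DFunLike.congr_fun (Sys.comm g') b').trans hb'⟩
  obtain ⟨k₁, g₁, hk₁⟩ := hgen Finset.univ
  choose b hb using fun i => hk₁ i (Finset.mem_univ i)
  let ψ₁ : MvPolynomial (Fin m) S →+* Sys.R k₁ :=
    MvPolynomial.eval₂Hom ((algebraMap A₀ (Sys.R k₁)).comp (algebraMap S A₀)) b
  have hψ : ∀ p, Sys.ρ k₁ (ψ₁ p) = φ (π p) := by
    intro p
    refine DFunLike.congr_fun (?_ : (Sys.ρ k₁).toRingHom.comp ψ₁ = φ.comp π.toRingHom) p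
    refine MvPolynomial.ringHom_ext (fun r => ?_) fun i => ?_
    · show Sys.ρ k₁ (ψ₁ (MvPolynomial.C r)) = φ (π (MvPolynomial.C r))
      rw [MvPolynomial.eval₂Hom_C, RingHom.comp_apply, (Sys.ρ k₁).commutes,
        show (MvPolynomial.C r : MvPolynomial (Fin m) S) = algebraMap S _ r from rfl, π.commutes, hφ]
    · show Sys.ρ k₁ (ψ₁ (MvPolynomial.X i)) = φ (π (MvPolynomial.X i))
      rw [MvPolynomial.eval₂Hom_X', hb]
  obtain ⟨G, hG⟩ : (RingHom.ker π.toRingHom).FG := IsNoetherian.noetherian _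
  have hrel : ∀ t : Finset (MvPolynomial (Fin m) S), (∀ p ∈ t, π p = 0) →
      ∃ (k : Sys.J) (g : Sys.Hom k₁ k) (_ : Sys.Hom j₀ k), ∀ p ∈ t, Sys.τ g (ψ₁ p) = 0 := by
    intro t ht
    induction t using Finset.induction with
    | empty =>
      obtain ⟨k, g, -, -⟩ := Sys.surj k₁ 0
      obtain ⟨g', -⟩ := Sys.comp g₁ g
      exact ⟨k, g, g', by simp⟩
    | @insert p t _ ih =>
      obtain ⟨k, g, g₀, hk⟩ := ih fun p' hp' => ht p' (Finset.mem_insert_of_mem hp')
      obtain ⟨l, g', hl⟩ := Sys.inj k (Sys.τ g (ψ₁ p)) (by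
        rw [← AlgHom.comp_apply, Sys.comm, hψ, ht p (Finset.mem_insert_self _ _), map_zero])
      obtain ⟨g'', hg''⟩ := Sys.comp g g'
      obtain ⟨g₀', -⟩ := Sys.comp g₀ g'
      refine ⟨l, g'', g₀', fun p' hp' => ?_⟩
      rw [hg'', AlgHom.comp_apply]
      rcases Finset.mem_insert.1 hp' with rfl | hp'
      · exact hl
      · rw [hk p' hp', map_zero]
  obtain ⟨k, g, g₀, hk⟩ := hrel G fun p hp => RingHom.mem_ker.mp (hG ▸ Ideal.subset_span hp)
  let φ' : MvPolynomial (Fin m) S →+* Sys.R k := (Sys.τ g).toRingHom.comp ψ₁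
  have hle : RingHom.ker π.toRingHom ≤ RingHom.ker φ' := by
    rw [← hG, Ideal.span_le]
    exact fun p hp => hk p hp
  let σ : R →+* Sys.R k := RingHom.liftOfSurjective π.toRingHom hπ ⟨φ', hle⟩
  have hσ : ∀ p, σ (π p) = φ' p := fun p => RingHom.liftOfRightInverse_comp_apply _ _ _ ⟨φ', hle⟩ p
  refine ⟨k, g₀, σ, fun s => ?_, fun r => ?_⟩
  · rw [← π.commutes, hσ]
    show Sys.τ g (ψ₁ (MvPolynomial.C s)) = _
    rw [MvPolynomial.eval₂Hom_C, RingHom.comp_apply, (Sys.τ g).commutes]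
  · obtain ⟨p, rfl⟩ := hπ r
    rw [hσ]
    exact (DFunLike.congr_fun (Sys.comm g) (ψ₁ p)).trans (hψ p)

end Groth.Agent.GrFlatLib
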