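import Groth.Agent.GrFlatLib.Main

/-!
# Descent of flatness of all the truncations
-/

set_option autoImplicit false
set_option linter.style.haveILetI false
set_option linter.unusedSectionVars false
set_option backward.isDefEq.respectTransparency false
set_option synthInstance.maxHeartbeats 400000
set_option maxHeartbeats 1000000

universe u

open TensorProduct

noncomputable section

namespace Groth.Agent.GrFlatLib

attribute [local instance] Algebra.TensorProduct.rightAlgebra

variable {S B : Type u} [CommRing S] [IsNoetherianRing S] [CommRing B] [Algebra S B]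
  [Algebra.FiniteType S B] (J : Ideal B) (M : Type u) [AddCommGroup M] [Module B M] [Module S M]
  [IsScalarTower S B M] [Module.Finite B M] (A : Type u) [CommRing A] [Algebra S A]

theorem exists_finite_ker_piece (hA : FlatQ S J M A) (k : ℕ) :
    ∃ G : Finset (A ⊗[S] grk J M k),
      (G : Set (A ⊗[S] grk J M k)) ⊆ LinearMap.ker ((fS S J M k).baseChange A) ∧
      LinearMap.ker ((fS S J M k).baseChange A) ≤ cspan (C := B) A (G : Set (A ⊗[S] grk J M k)) := by
  classical
  haveI := Algebra.FiniteType.isNoetherianRing S B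
  obtain ⟨T, -, hT⟩ := exists_flat_stage_le J M A hA (k + 1) ⟨⊥, Subalgebra.fg_bot⟩
  haveI := hT k (Nat.lt_succ_self k)
  haveI : Algebra.FiniteType S T.1 := (Subalgebra.fg_iff_finiteType _).1 T.2
  haveI := Algebra.FiniteType.isNoetherianRing S T.1
  haveI : IsNoetherianRing (T.1 ⊗[S] B) := Algebra.FiniteType.isNoetherianRing T.1 _
  obtain ⟨G, hG, hgen⟩ := exists_finite_ker (S := S) (C := B) T.1 (grk J M k).subtype
  refine ⟨G.image (bc T.1 A _), ?_, ?_⟩
  · rw [Finset.coe_image]
    rintro _ ⟨g, hg, rfl⟩
    exact bc_ker_le _ (hG hg)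
  · rw [Finset.coe_image]
    exact LE.le.trans (LE.le.trans (ker_fS_le J M T.1 A k) (Submodule.span_mono (Set.image_mono hgen)))
      (bc_span_cspan_le T.1 (G : Set (T.1 ⊗[S] grk J M k)))

theorem ker_piece_le {d : ℕ} (R : Type u) [CommRing R] [Algebra S R] [Algebra R A] [IsScalarTower S R A]
    (hA : FlatQ S J M A)
    (hd : ∀ (κ : Type u) [Field κ] [Algebra S κ],
      LinearMap.ker ((ιS S J M).baseChange κ) ≤ (comp S J M).low (reesAlgebra J) d κ)
    (hR : ∀ j ≤ d, Module.Flat R (R ⊗[S] Q J M j)) (k : ℕ) :
    LinearMap.ker ((fS S J M k).baseChange A) ≤ (Submodule.span A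
      (bc R A _ '' (LinearMap.ker ((ιS S J M).baseChange R) : Set (R ⊗[S] GR J M)))).map
        (((comp S J M).pN k).baseChange A) := by
  obtain ⟨G, hG, hgen⟩ := exists_finite_ker_piece J M A hA k
  exact (comp S J M).piece_le (C := reesAlgebra J) (B := B) R A k (grk J M k).subtype rfl
    (flat_range_fS J M A hA k) (projR_cs J M A k) (fun c x hx => cs_mem_ker J M R c hx) G hG hgen
    (fun κ _ _ _ _ j hj => haveI := hR j hj; ker_fS_le J M R κ j) hd

/-- The kernel over `A` is spanned by the kernel over a finitely generated subalgebra. -/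
theorem exists_ker_stage (hA : FlatQ S J M A) : ∃ T : (subSys S A).J,
    LinearMap.ker ((ιS S J M).baseChange A) ≤
      Submodule.span A (bc T.1 A _ '' (LinearMap.ker ((ιS S J M).baseChange T.1) : Set (T.1 ⊗[S] GR J M))) := by
  obtain ⟨d, hd⟩ := exists_bound (S := S) J M
  obtain ⟨T, -, hT⟩ := exists_flat_stage_le J M A hA (d + 1) ⟨⊥, Subalgebra.fg_bot⟩
  exact ⟨T, (comp S J M).ker_le_of_components T.1 A
    (ker_piece_le J M A T.1 hA hd fun j hj => hT j (Nat.lt_succ_iff.mpr hj))⟩

end Groth.Agent.GrFlatLib

namespace Groth.Agent.GrFlatLib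

attribute [local instance] Algebra.TensorProduct.rightAlgebra

section Stage

variable {S C : Type u} [CommRing S] [CommRing C] [Algebra S C] [Algebra.FiniteType S C]
  {N P : Type u} [AddCommGroup N] [Module C N] [Module S N] [IsScalarTower S C N] [Module.Finite C N]
  [AddCommGroup P] [Module C P] [Module S P] [IsScalarTower S C P]

/-- An image flat over `A` is flat over a finitely generated subalgebra. -/
theorem exists_stage_range (f : N →ₗ[C] P) (g : N →ₗ[S] P) (hg : f.restrictScalars S = g)
    (R A : Type u) [CommRing R] [IsNoetherianRing R] [Algebra S R] [CommRing A] [Algebra R A]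
    (h : Module.Flat A (A ⊗[R] LinearMap.range (g.baseChange R))) :
    ∃ T : Subalgebra R A, T.FG ∧ Module.Flat T (T ⊗[R] LinearMap.range (g.baseChange R)) := by
  subst hg
  haveI : IsNoetherianRing (R ⊗[S] C) := Algebra.FiniteType.isNoetherianRing R _
  haveI : Algebra.FinitePresentation R (R ⊗[S] C) := Algebra.FinitePresentation.of_finiteType.mp inferInstance
  haveI : Module.FinitePresentation (R ⊗[S] C) (LinearMap.range (f.baseChange (R ⊗[S] C))) :=
    @Module.finitePresentation_of_finite (R ⊗[S] C) (LinearMap.range (f.baseChange (R ⊗[S] C))) _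
      (LinearMap.range (f.baseChange (R ⊗[S] C))).addCommGroup _ _ _
  haveI := h
  have hX : Module.Flat A (A ⊗[R] LinearMap.range (f.baseChange (R ⊗[S] C))) :=
    Module.Flat.of_linearEquiv (AlgebraTensorModule.congr (LinearEquiv.refl A A) (rangeEquiv R f))
  obtain ⟨T, -, hT⟩ := FlatStage.exists_flat_stage (B := R ⊗[S] C)
    (M := LinearMap.range (f.baseChange (R ⊗[S] C))) (subSys R A) (⟨⊥, Subalgebra.fg_bot⟩) (subSys_dir R A) hX
  haveI : Module.Flat T.1 (T.1 ⊗[R] LinearMap.range (f.baseChange (R ⊗[S] C))) := hT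
  exact ⟨T.1, T.2, Module.Flat.of_linearEquiv
    (AlgebraTensorModule.congr (LinearEquiv.refl T.1 T.1) (rangeEquiv R f)).symm⟩

end Stage

variable {S B : Type u} [CommRing S] [IsNoetherianRing S] [CommRing B] [Algebra S B]
  [Algebra.FiniteType S B] (J : Ideal B) (M : Type u) [AddCommGroup M] [Module B M] [Module S M]
  [IsScalarTower S B M] [Module.Finite B M] (A : Type u) [CommRing A] [Algebra S A]

/-- All truncations are flat over some algebra of finite type. -/
theorem exists_flatQ_finiteType (hA : FlatQ S J M A) :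
    ∃ (R : Type u) (_ : CommRing R) (_ : Algebra S R) (_ : Algebra R A),
      IsScalarTower S R A ∧ Algebra.FiniteType S R ∧ FlatQ S J M R := by
  haveI := Algebra.FiniteType.isNoetherianRing S B
  obtain ⟨T, hT⟩ := exists_ker_stage J M A hA
  haveI : Algebra.FiniteType S T.1 := (Subalgebra.fg_iff_finiteType _).1 T.2
  haveI := Algebra.FiniteType.isNoetherianRing S T.1
  haveI := finiteType_rees J S (fg_ideal (S := S) J)
  haveI := finite_GR J M
  have hinjA := range_lTensor_injective_of_ker_le (ιS S J M) T.1 A hT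
  haveI := flat_range_ιS J M A hA
  obtain ⟨T', hT'fg, hT'⟩ := exists_stage_range (C := reesAlgebra J) (GR J M).subtype (ιS S J M) rfl T.1 A
    (flat_tensor_range_of_injective (ιS S J M) T.1 A hinjA)
  haveI := hT'
  exact ⟨T', inferInstance, inferInstance, inferInstance, inferInstance, fg_trans' T' hT'fg,
    flatQ_of_injective J M T.1 T' (injective_lTensor_subalgebra T' _ hinjA)⟩

end Groth.Agent.GrFlatLib
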