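import Groth.Agent.GrFlatLib.Apply

/-!
# The associated graded module of a base change
-/

set_option autoImplicit false
set_option linter.style.haveILetI false
set_option linter.unusedSectionVars false
set_option backward.isDefEq.respectTransparency false
set_option synthInstance.maxHeartbeats 400000
set_option maxHeartbeats 1000000

universe u

open TensorProduct Polynomial

noncomputable section

namespace Groth.Agent.GrFlatLib

section Functorial

variable {B B₀ : Type u} [CommRing B] [CommRing B₀] [Algebra B B₀] {J : Ideal B} {J₀ : Ideal B₀}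
  (hle : J.map (algebraMap B B₀) ≤ J₀) {M M₀ : Type u} [AddCommGroup M] [Module B M]
  [AddCommGroup M₀] [Module B₀ M₀] [Module B M₀] [IsScalarTower B B₀ M₀] (μ : M →ₗ[B] M₀)

include hle in
theorem map_mem_pow {k : ℕ} {b : B} (hb : b ∈ J ^ k) : algebraMap B B₀ b ∈ J₀ ^ k :=
  (Ideal.map_pow _ _ _).le.trans (Ideal.pow_right_mono hle k) (Ideal.mem_map_of_mem _ hb)

include hle in
theorem apply_mem_smul_top {k : ℕ} {m : M} (hm : m ∈ J ^ k • (⊤ : Submodule B M)) :
    μ m ∈ J₀ ^ k • (⊤ : Submodule B₀ M₀) := by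
  induction hm using Submodule.smul_induction_on' with
  | smul b hb x _ =>
    rw [map_smul, ← algebraMap_smul B₀ b (μ x)]
    exact Submodule.smul_mem_smul (map_mem_pow hle hb) trivial
  | add x _ y _ hx hy => rw [map_add]; exact add_mem hx hy

/-- The map of Rees algebras. -/
def reesMap : reesAlgebra J →+* reesAlgebra J₀ :=
  ((Polynomial.mapRingHom (algebraMap B B₀)).comp (reesAlgebra J).val.toRingHom).codRestrict
    (reesAlgebra J₀) fun f i => by
      show ((f : B[X]).map (algebraMap B B₀)).coeff i ∈ J₀ ^ i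
      rw [Polynomial.coeff_map]
      exact map_mem_pow hle (f.2 i)

theorem coe_reesMap (f : reesAlgebra J) :
    ((reesMap hle f : reesAlgebra J₀) : B₀[X]) = (f : B[X]).map (algebraMap B B₀) := rfl

theorem reesMap_algebraMap (b : B) :
    reesMap hle (algebraMap B (reesAlgebra J) b) = algebraMap B₀ (reesAlgebra J₀) (algebraMap B B₀ b) :=
  Subtype.ext (Polynomial.map_C _)

/-- The map on truncations. -/
def qMap (k : ℕ) : Q J M k →ₗ[B] Q J₀ M₀ k :=
  Submodule.liftQ _ ((J₀ ^ k • (⊤ : Submodule B₀ M₀)).mkQ.restrictScalars B ∘ₗ μ)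
    fun _ hm => (Submodule.Quotient.mk_eq_zero _).mpr (apply_mem_smul_top hle μ hm)

theorem qMap_mk (k : ℕ) (m : M) : qMap hle μ k (Submodule.Quotient.mk m) = Submodule.Quotient.mk (μ m) := rfl

/-- The map on the sums of the truncations. -/
def wMap : W J M →ₗ[B] W J₀ M₀ :=
  Submodule.liftQ ((shift J M).submodule.restrictScalars B)
      ((shift J₀ M₀).submodule.mkQ.restrictScalars B ∘ₗ PolynomialModule.map B₀ μ)
      (fun p hp => (Submodule.Quotient.mk_eq_zero _).mpr fun i => by
        show (PolynomialModule.map B₀ μ p).coeff i ∈ _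
        exact apply_mem_smul_top hle μ (hp i)) ∘ₗ
    (Submodule.Quotient.restrictScalarsEquiv B (shift J M).submodule).symm.toLinearMap

theorem wMap_mk (p : PolynomialModule B M) :
    wMap hle μ (Submodule.Quotient.mk p) = Submodule.Quotient.mk (PolynomialModule.map B₀ μ p) := rfl

theorem wMap_smul (c : reesAlgebra J) (x : W J M) :
    wMap hle μ (c • x) = reesMap hle c • wMap hle μ x := by
  obtain ⟨p, rfl⟩ := Submodule.Quotient.mk_surjective _ x
  rw [← Submodule.Quotient.mk_smul, wMap_mk, wMap_mk, ← Submodule.Quotient.mk_smul]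
  congr 1
  exact PolynomialModule.map_smul B₀ μ (c : B[X]) p

theorem proj_wMap (k : ℕ) (x : W J M) :
    proj J₀ M₀ k (wMap hle μ x) = qMap hle μ (k + 1) (proj J M k x) := by
  obtain ⟨p, rfl⟩ := Submodule.Quotient.mk_surjective _ x
  rfl

theorem wMap_mem {x : W J M} (hx : x ∈ GR J M) : wMap hle μ x ∈ GR J₀ M₀ := by
  obtain ⟨p, hp, rfl⟩ := hx
  exact ⟨PolynomialModule.map B₀ μ p, fun i => apply_mem_smul_top hle μ (hp i), rfl⟩

end Functorial

theorem bijective_of_square {A X Y X' Y' : Type u} [CommRing A] [AddCommGroup X] [Module A X]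
    [AddCommGroup Y] [Module A Y] [AddCommGroup X'] [Module A X'] [AddCommGroup Y'] [Module A Y']
    (d : X →ₗ[A] X') (p : Y →ₗ[A] Y') (g : X →ₗ[A] Y) (f : X' →ₗ[A] Y') (hd : Function.Surjective d)
    (hp : Function.Surjective p) (hg : Function.Bijective g) (hcomm : ∀ x, f (d x) = p (g x))
    (hker : LinearMap.ker p ≤ (LinearMap.ker d).map g) : Function.Bijective f := by
  refine ⟨(injective_iff_map_eq_zero _).mpr fun x hx => ?_, fun x => ?_⟩
  · obtain ⟨y, rfl⟩ := hd x
    rw [hcomm] at hx
    obtain ⟨y', hy', he⟩ := hker hx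
    rw [← hg.1 he]
    exact hy'
  · obtain ⟨x, rfl⟩ := hp x
    obtain ⟨y, rfl⟩ := hg.2 x
    exact ⟨d y, hcomm y⟩

section BaseChangeMap

variable {S A B B₀ : Type u} [CommRing S] [CommRing A] [Algebra S A] [CommRing B] [Algebra S B]
  [CommRing B₀] [Algebra S B₀] [Algebra A B₀] [IsScalarTower S A B₀] [Algebra B B₀] [IsScalarTower S B B₀]
  {J : Ideal B} {J₀ : Ideal B₀}
  {M M₀ : Type u} [AddCommGroup M] [Module B M] [Module S M] [IsScalarTower S B M]
  [AddCommGroup M₀] [Module B₀ M₀] [Module B M₀] [IsScalarTower B B₀ M₀] [Module A M₀]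
  [IsScalarTower A B₀ M₀] [Module S M₀] [IsScalarTower S A M₀] [IsScalarTower S B M₀] [IsScalarTower S B₀ M₀]

/-- `B₀` is the quotient of a base change of `B`, `J₀` comes from `J` and `M₀` is the base change of `M`. -/
structure IsModel (J : Ideal B) (J₀ : Ideal B₀) (μ : M →ₗ[B] M₀) : Prop where
  surj : ∀ b₀ : B₀, b₀ ∈ Submodule.span A (Set.range (algebraMap B B₀))
  map : J.map (algebraMap B B₀) = J₀
  bij : Function.Bijective ((μ.restrictScalars S).liftBaseChange A)

variable {μ : M →ₗ[B] M₀} (h : IsModel (S := S) (A := A) J J₀ μ)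

include h in
theorem IsModel.le : J.map (algebraMap B B₀) ≤ J₀ := h.map.le

include h in
theorem IsModel.smul_top_eq (k : ℕ) :
    (J₀ ^ k • (⊤ : Submodule B₀ M₀)).restrictScalars A =
      Submodule.span A (μ '' (J ^ k • (⊤ : Submodule B M) : Submodule B M)) := by
  refine le_antisymm ?_ (Submodule.span_le.mpr ?_)
  · let V := Submodule.span A (μ '' (J ^ k • (⊤ : Submodule B M) : Submodule B M))
    have hB : ∀ b₀ : B₀, ∀ v ∈ V, b₀ • v ∈ V := by
      intro b₀ v hv
      induction h.surj b₀ using Submodule.span_induction with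
      | mem x hx =>
        obtain ⟨b, rfl⟩ := hx
        rw [algebraMap_smul]
        induction hv using Submodule.span_induction with
        | mem y hy =>
          obtain ⟨m, hm, rfl⟩ := hy
          exact Submodule.subset_span ⟨b • m, Submodule.smul_mem _ b hm, map_smul μ b m⟩
        | zero => rw [smul_zero]; exact zero_mem _
        | add y z _ _ hy hz => rw [smul_add]; exact add_mem hy hz
        | smul a y _ hy =>
          rw [← algebraMap_smul B₀ b (a • y), smul_comm, algebraMap_smul]
          exact Submodule.smul_mem _ a hy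
      | zero => rw [zero_smul]; exact zero_mem _
      | add x y _ _ hx hy => rw [add_smul]; exact add_mem hx hy
      | smul a x _ hx => rw [smul_assoc]; exact Submodule.smul_mem _ a hx
    let V' : Submodule B₀ M₀ := { V.toAddSubmonoid with smul_mem' := fun b v hv => hB b v hv }
    show ∀ x ∈ (J₀ ^ k • (⊤ : Submodule B₀ M₀)), x ∈ V'
    rw [← SetLike.le_def, ← h.map, ← Ideal.map_pow, Ideal.map, Submodule.span_smul_eq,
      Submodule.set_smul_le_iff]
    rintro _ x ⟨b, hb, rfl⟩ -
    show algebraMap B B₀ b • x ∈ V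
    obtain ⟨y, rfl⟩ := h.bij.2 x
    induction y with
    | zero => rw [map_zero, smul_zero]; exact zero_mem _
    | tmul a m =>
      rw [LinearMap.liftBaseChange_tmul, smul_comm, algebraMap_smul]
      refine Submodule.smul_mem _ a (Submodule.subset_span ⟨b • m, ?_, map_smul μ b m⟩)
      exact Submodule.smul_mem_smul hb trivial
    | add y z hy hz => rw [map_add, smul_add]; exact add_mem hy hz
  · rintro _ ⟨m, hm, rfl⟩
    exact apply_mem_smul_top h.le μ hm

variable (S A) in
/-- The map on truncations, lifted. -/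
def qLift (hle : J.map (algebraMap B B₀) ≤ J₀) (μ : M →ₗ[B] M₀) (k : ℕ) :
    A ⊗[S] Q J M k →ₗ[A] Q J₀ M₀ k :=
  ((qMap hle μ k).restrictScalars S).liftBaseChange A

include h in
theorem IsModel.qLift_bijective (k : ℕ) : Function.Bijective (qLift S A h.le μ k) := by
  refine bijective_of_square (X := A ⊗[S] M) (Y := M₀)
    (((J ^ k • (⊤ : Submodule B M)).mkQ.restrictScalars S).baseChange A)
    ((J₀ ^ k • (⊤ : Submodule B₀ M₀)).mkQ.restrictScalars A) ((μ.restrictScalars S).liftBaseChange A) _
    (LinearMap.lTensor_surjective A (Submodule.mkQ_surjective (J ^ k • (⊤ : Submodule B M))))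
    (Submodule.mkQ_surjective _) h.bij (fun y => ?_) ?_
  · induction y with
    | zero => simp
    | tmul a m => simp [qLift, qMap_mk]
    | add y z hy hz => rw [map_add, map_add, hy, hz, map_add, map_add]
  · intro x hx
    have hx' : x ∈ (J₀ ^ k • (⊤ : Submodule B₀ M₀)).restrictScalars A :=
      (Submodule.Quotient.mk_eq_zero _).mp hx
    rw [h.smul_top_eq] at hx'
    refine (Submodule.span_le.mpr ?_) hx'
    rintro _ ⟨m, hm, rfl⟩
    refine ⟨1 ⊗ₜ m, ?_, by simp⟩
    rw [SetLike.mem_coe, LinearMap.mem_ker]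
    show (1 : A) ⊗ₜ[S] (Submodule.Quotient.mk m : Q J M k) = 0
    rw [(Submodule.Quotient.mk_eq_zero _).mpr hm, TensorProduct.tmul_zero]

instance : IsScalarTower S B (W J₀ M₀) :=
  ⟨fun s b x => by
    rw [← algebraMap_smul B₀ (s • b) x, ← algebraMap_smul B₀ b x]
    exact (congrArg (· • x) ((IsScalarTower.toAlgHom S B B₀).toLinearMap.map_smul s b)).trans
      (smul_assoc s (algebraMap B B₀ b) x)⟩

variable (S A) in
/-- The map on the sums of truncations, lifted. -/
def wLift (hle : J.map (algebraMap B B₀) ≤ J₀) (μ : M →ₗ[B] M₀) : A ⊗[S] W J M →ₗ[A] W J₀ M₀ :=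
  ((wMap hle μ).restrictScalars S).liftBaseChange A

theorem proj_wLift (hle : J.map (algebraMap B B₀) ≤ J₀) (k : ℕ) (x : A ⊗[S] W J M) :
    proj J₀ M₀ k (wLift S A hle μ x) =
      qLift S A hle μ (k + 1) (((proj J M k).restrictScalars S).baseChange A x) := by
  induction x with
  | zero => simp
  | tmul a w =>
    show proj J₀ M₀ k (a • wMap hle μ w) = a • qMap hle μ (k + 1) (proj J M k w)
    rw [LinearMap.map_smul_of_tower, proj_wMap]
  | add x y hx hy => simp only [map_add, hx, hy]

variable (J J₀) in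
/-- The sum of the truncations of a model. -/
theorem IsModel.wLift_injective : Function.Injective (wLift S A h.le μ) := by
  rw [injective_iff_map_eq_zero]
  intro x hx
  refine ((comp S J M).dV.lTensor A).eq_zero fun k => ?_
  have h1 : qLift S A h.le μ (k + 1) (((proj J M k).restrictScalars S).baseChange A x) = 0 := by
    rw [← proj_wLift, hx, map_zero]
  show ((incl J M k).restrictScalars S).baseChange A (((proj J M k).restrictScalars S).baseChange A x) = 0
  rw [(map_eq_zero_iff _ (h.qLift_bijective (k + 1)).1).mp h1, map_zero]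

variable (S A) in
/-- The map on graded modules, lifted. -/
def grLift (hle : J.map (algebraMap B B₀) ≤ J₀) (μ : M →ₗ[B] M₀) : A ⊗[S] GR J M →ₗ[A] W J₀ M₀ :=
  wLift S A hle μ ∘ₗ (ιS S J M).baseChange A

theorem grLift_mem (hle : J.map (algebraMap B B₀) ≤ J₀) (x : A ⊗[S] GR J M) :
    grLift S A hle μ x ∈ GR J₀ M₀ := by
  induction x with
  | zero => rw [map_zero]; exact zero_mem _
  | tmul a z =>
    show a • wMap hle μ z.1 ∈ GR J₀ M₀
    rw [← algebraMap_smul B₀ a]
    exact Submodule.smul_of_tower_mem _ _ (wMap_mem hle μ z.2)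
  | add x y hx hy => rw [map_add]; exact add_mem hx hy

include h in
theorem IsModel.grLift_range {x : W J₀ M₀} (hx : x ∈ GR J₀ M₀) : ∃ z, grLift S A h.le μ z = x := by
  let V : Submodule B₀ (W J₀ M₀) :=
    { carrier := {x | ∃ z, grLift S A h.le μ z = x}
      add_mem' := by rintro _ _ ⟨a, rfl⟩ ⟨b, rfl⟩; exact ⟨a + b, map_add _ _ _⟩
      zero_mem' := ⟨0, map_zero _⟩
      smul_mem' := fun b₀ => by
        rintro _ ⟨z, rfl⟩
        induction h.surj b₀ using Submodule.span_induction with
        | mem y hy =>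
          obtain ⟨b, rfl⟩ := hy
          refine ⟨cs A (algebraMap B (reesAlgebra J) b) z, ?_⟩
          induction z with
          | zero => simp
          | tmul a w =>
            show a • wMap h.le μ (algebraMap B (reesAlgebra J) b • w.1) = algebraMap B B₀ b • (a • wMap h.le μ w.1)
            rw [algebraMap_smul, map_smul, ← algebraMap_smul B₀ b (wMap h.le μ w.1), smul_comm]
          | add y z hy hz => simp only [map_add, smul_add, hy, hz]
        | zero => exact ⟨0, by rw [map_zero, zero_smul]⟩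
        | add y y' _ _ hy hy' =>
          obtain ⟨z₁, h₁⟩ := hy
          obtain ⟨z₂, h₂⟩ := hy'
          exact ⟨z₁ + z₂, by rw [map_add, h₁, h₂, add_smul]⟩
        | smul a y _ hy =>
          obtain ⟨z₁, h₁⟩ := hy
          exact ⟨a • z₁, by rw [map_smul, h₁, smul_assoc]⟩ }
  refine ((decomp_W J₀ M₀).mem (T := V) ?_ : x ∈ V)
  · intro k
    obtain ⟨m, hm, hmk⟩ := proj_mem J₀ M₀ k hx
    rw [← hmk]
    show ∃ z, grLift S A h.le μ z = incl J₀ M₀ k (Submodule.Quotient.mk m)
    have hm' : m ∈ Submodule.span A (μ '' (J ^ k • (⊤ : Submodule B M) : Submodule B M)) := by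
      rw [← h.smul_top_eq]
      exact hm
    clear hm hmk
    induction hm' using Submodule.span_induction with
    | mem y hy =>
      obtain ⟨m, hm, rfl⟩ := hy
      refine ⟨1 ⊗ₜ inclGR J M k ⟨Submodule.Quotient.mk m, m, hm, rfl⟩, ?_⟩
      show (1 : A) • wMap h.le μ (incl J M k (Submodule.Quotient.mk m)) = _
      rw [one_smul, incl_mk, wMap_mk, incl_mk]
      congr 1
      exact PolynomialModule.map_single B₀ μ k m
    | zero => exact ⟨0, by rw [map_zero, Submodule.Quotient.mk_zero, map_zero]⟩
    | add y y' hy0 hy0' hy hy' =>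
      obtain ⟨z₁, h₁⟩ := hy
      obtain ⟨z₂, h₂⟩ := hy'
      exact ⟨z₁ + z₂, by rw [map_add, h₁, h₂, Submodule.Quotient.mk_add, map_add]⟩
    | smul a y hy0 hy =>
      obtain ⟨z₁, h₁⟩ := hy
      exact ⟨a • z₁, by rw [map_smul, h₁, Submodule.Quotient.mk_smul, LinearMap.map_smul_of_tower]⟩

end BaseChangeMap

end Groth.Agent.GrFlatLib
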