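import Groth.Agent.GrFlatLib.Tensor
import Mathlib.RingTheory.Filtration
import Mathlib.RingTheory.ReesAlgebra

/-!
# The associated graded module inside the direct sum of the truncations

`W J M` is `⊕ M / J^(k+1) M` as a module over the Rees algebra and `GR J M` the image of the Rees
module in it, that is the associated graded module.
-/

set_option autoImplicit false
set_option linter.style.haveILetI false
set_option linter.unusedSectionVars false

universe u

open Polynomial PolynomialModule

noncomputable section

namespace Groth.Agent.GrFlatLib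

variable {B : Type u} [CommRing B] (J : Ideal B) (M : Type u) [AddCommGroup M] [Module B M]

/-- The filtration `k ↦ J^(k+1) M`. -/
def shift : J.Filtration M where
  N k := J ^ (k + 1) • ⊤
  mono k := Submodule.smul_mono_left (Ideal.pow_le_pow_right (by omega))
  smul_le k := by rw [← mul_smul, ← pow_succ']

/-- The truncation `M / J^k M`. -/
abbrev Q (k : ℕ) : Type u := M ⧸ (J ^ k • (⊤ : Submodule B M))

/-- The direct sum of the truncations, as a module over the Rees algebra. -/
abbrev W : Type u := PolynomialModule B M ⧸ (shift J M).submodule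

theorem mem_shift {p : PolynomialModule B M} :
    p ∈ (shift J M).submodule ↔ ∀ i, p.coeff i ∈ J ^ (i + 1) • (⊤ : Submodule B M) := Iff.rfl

/-- The `k`-th component. -/
def coeffHom (k : ℕ) : PolynomialModule B M →ₗ[B] M :=
  Finsupp.lapply k ∘ₗ (coeffLinearEquiv B B).toLinearMap

/-- The projection onto a truncation. -/
def proj (k : ℕ) : W J M →ₗ[B] Q J M (k + 1) :=
  Submodule.liftQ ((shift J M).submodule.restrictScalars B)
      ((J ^ (k + 1) • (⊤ : Submodule B M)).mkQ ∘ₗ coeffHom M k)
      (fun _ hp => (Submodule.Quotient.mk_eq_zero _).mpr (hp k)) ∘ₗ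
    (Submodule.Quotient.restrictScalarsEquiv B (shift J M).submodule).symm.toLinearMap

/-- The inclusion of a truncation. -/
def incl (k : ℕ) : Q J M (k + 1) →ₗ[B] W J M :=
  Submodule.liftQ _ ((shift J M).submodule.mkQ.restrictScalars B ∘ₗ lsingle B k) (fun m hm =>
    (Submodule.Quotient.mk_eq_zero _).mpr fun i => by
      rw [lsingle_apply]
      split_ifs with h
      · exact h ▸ hm
      · exact zero_mem _)

theorem proj_mk (k : ℕ) (p : PolynomialModule B M) :
    proj J M k (Submodule.Quotient.mk p) = Submodule.Quotient.mk (p.coeff k) := rfl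

theorem incl_mk (k : ℕ) (m : M) :
    incl J M k (Submodule.Quotient.mk m) = Submodule.Quotient.mk (lsingle B k m) := rfl

theorem proj_incl (k : ℕ) (x : Q J M (k + 1)) : proj J M k (incl J M k x) = x := by
  obtain ⟨m, rfl⟩ := Submodule.Quotient.mk_surjective _ x
  rw [incl_mk, proj_mk, lsingle_apply, if_pos rfl]

theorem decomp_W : Decomp (incl J M) (proj J M) := by
  classical
  intro v
  obtain ⟨p, rfl⟩ := Submodule.Quotient.mk_surjective _ v
  refine ⟨p.coeff.support, fun t ht => ?_⟩
  simp only [proj_mk, incl_mk]
  refine (map_sum (shift J M).submodule.mkQ _ _).symm.trans ?_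
  refine congrArg (shift J M).submodule.mkQ ?_
  ext i
  rw [PolynomialModule.coeff_sum, Finsupp.finsetSum_apply]
  simp only [lsingle_apply]
  rw [Finset.sum_ite_eq']
  split_ifs with h
  · rfl
  · exact (Finsupp.notMem_support_iff.mp fun hi => h (ht hi)).symm

/-- The Rees module mapped into the truncations: the associated graded module. -/
def GR : Submodule (reesAlgebra J) (W J M) :=
  (J.stableFiltration (⊤ : Submodule B M)).submodule.map (shift J M).submodule.mkQ

/-- A graded piece. -/
def grk (k : ℕ) : Submodule B (Q J M (k + 1)) :=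
  (J ^ k • (⊤ : Submodule B M)).map (J ^ (k + 1) • (⊤ : Submodule B M)).mkQ

theorem proj_mem (k : ℕ) {z : W J M} (hz : z ∈ GR J M) : proj J M k z ∈ grk J M k := by
  obtain ⟨p, hp, rfl⟩ := hz
  exact ⟨p.coeff k, hp k, rfl⟩

theorem incl_mem (k : ℕ) {x : Q J M (k + 1)} (hx : x ∈ grk J M k) : incl J M k x ∈ GR J M := by
  obtain ⟨m, hm, rfl⟩ := hx
  refine ⟨lsingle B k m, fun i => ?_, rfl⟩
  rw [lsingle_apply]
  split_ifs with h
  · exact h ▸ hm
  · exact zero_mem _

/-- The projection of the graded module onto a piece. -/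
def projGR (k : ℕ) : GR J M →ₗ[B] grk J M k :=
  LinearMap.codRestrict _ (proj J M k ∘ₗ (GR J M).subtype.restrictScalars B) fun z => proj_mem J M k z.2

/-- The inclusion of a piece. -/
def inclGR (k : ℕ) : grk J M k →ₗ[B] GR J M :=
  LinearMap.codRestrict ((GR J M).restrictScalars B) (incl J M k ∘ₗ (grk J M k).subtype)
    fun x => incl_mem J M k x.2

theorem subtype_projGR (k : ℕ) (z : GR J M) :
    (grk J M k).subtype (projGR J M k z) = proj J M k ((GR J M).subtype z) := rfl

theorem subtype_inclGR (k : ℕ) (x : grk J M k) :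
    (GR J M).subtype (inclGR J M k x) = incl J M k ((grk J M k).subtype x) := rfl

theorem projGR_inclGR (k : ℕ) (x : grk J M k) : projGR J M k (inclGR J M k x) = x :=
  Subtype.ext (proj_incl J M k x)

theorem decomp_GR : Decomp (inclGR J M) (projGR J M) := by
  intro v
  obtain ⟨t, ht⟩ := decomp_W J M v.1
  exact ⟨t, fun t' h => Subtype.ext ((map_sum ((GR J M).subtype.restrictScalars B) _ _).trans (ht t' h))⟩

/-- The map between consecutive truncations. -/
def qmap (k : ℕ) : Q J M (k + 1) →ₗ[B] Q J M k :=
  Submodule.factor (Submodule.smul_mono_left (Ideal.pow_le_pow_right (Nat.le_succ k)))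

theorem qmap_surjective (k : ℕ) : Function.Surjective (qmap J M k) :=
  Submodule.factor_surjective (Submodule.smul_mono_left (Ideal.pow_le_pow_right (Nat.le_succ k)))

theorem exact_qmap (k : ℕ) : Function.Exact (grk J M k).subtype (qmap J M k) := by
  intro x
  obtain ⟨m, rfl⟩ := Submodule.Quotient.mk_surjective _ x
  constructor
  · intro h
    exact ⟨⟨_, m, (Submodule.Quotient.mk_eq_zero _).mp h, rfl⟩, rfl⟩
  · rintro ⟨⟨_, m', hm', rfl⟩, h⟩
    rw [← h]
    exact (Submodule.Quotient.mk_eq_zero _).mpr hm'

theorem finite_GR [IsNoetherianRing B] [Module.Finite B M] : Module.Finite (reesAlgebra J) (GR J M) := by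
  refine Module.Finite.iff_fg.mpr (Submodule.FG.map _ ?_)
  exact (Ideal.Filtration.submodule_fg_iff_stable _ fun i => IsNoetherian.noetherian _).2
    (Ideal.stableFiltration_stable J ⊤)

theorem finiteType_rees (S : Type u) [CommRing S] [Algebra S B] [Algebra.FiniteType S B] (hJ : J.FG) :
    Algebra.FiniteType S (reesAlgebra J) :=
  haveI : Algebra.FiniteType B (reesAlgebra J) :=
    (Subalgebra.fg_iff_finiteType _).1 (reesAlgebra.fg hJ)
  Algebra.FiniteType.trans (S := B) inferInstance inferInstance

end Groth.Agent.GrFlatLib
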