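import Groth.Agent.GrFlatLib.Point
import Groth.Agent.FlatLocus.Main

/-!
# Flatness of a graded module along the vertex section
-/

set_option autoImplicit false
set_option linter.style.haveILetI false
set_option linter.unusedSectionVars false
set_option backward.isDefEq.respectTransparency false

universe u

open TensorProduct

noncomputable section

namespace Groth.Agent.GrFlatLib

/-- Flatness of a localisation, tested on kernels. -/
theorem flat_localized_iff {R C X : Type u} [CommRing R] [CommRing C] [Algebra R C] [AddCommGroup X]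
    [Module C X] [Module R X] [IsScalarTower R C X] (T : Submonoid C) :
    Module.Flat R (LocalizedModule T X) ↔
      ∀ (a : Ideal R) (z : X ⊗[R] a), a.subtype.lTensor X z = 0 → ∃ s ∈ T, s • z = 0 := by
  let g := LocalizedModule.mkLinearMap T X
  have hnat : ∀ (a : Ideal R) (y : X ⊗[R] a),
      a.subtype.lTensor (LocalizedModule T X) (AlgebraTensorModule.rTensor R a g y) =
        AlgebraTensorModule.rTensor R R g (a.subtype.lTensor X y) := fun a y => by
    induction y with
    | zero => simp
    | tmul x t => rfl
    | add x y hx hy => rw [map_add, map_add, map_add, map_add, hx, hy]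
  rw [Module.Flat.iff_lTensor_injective']
  constructor
  · intro h a z hz
    have h0 : AlgebraTensorModule.rTensor R a g z = 0 := h a (by rw [hnat, hz, map_zero, map_zero])
    obtain ⟨s, hs⟩ := (IsLocalizedModule.eq_zero_iff T (AlgebraTensorModule.rTensor R a g)).mp h0
    exact ⟨s.1, s.2, hs⟩
  · intro h a
    rw [injective_iff_map_eq_zero]
    intro w hw
    obtain ⟨⟨z, s⟩, hzs⟩ := IsLocalizedModule.surj T (AlgebraTensorModule.rTensor R a g) w
    have h0 : AlgebraTensorModule.rTensor R R g (a.subtype.lTensor X z) = 0 := by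
      rw [← hnat a z, ← hzs]
      show a.subtype.lTensor _ ((s : C) • w) = 0
      rw [← AlgebraTensorModule.coe_lTensor (A := C), map_smul, AlgebraTensorModule.coe_lTensor, hw, smul_zero]
    obtain ⟨t, ht⟩ := (IsLocalizedModule.eq_zero_iff T (AlgebraTensorModule.rTensor R R g)).mp h0
    obtain ⟨t', ht', ht0⟩ := h a ((t : C) • z) (by
      rw [← AlgebraTensorModule.coe_lTensor (A := C), map_smul, AlgebraTensorModule.coe_lTensor]
      exact ht)
    have hz0 : AlgebraTensorModule.rTensor R a g z = 0 :=
      (IsLocalizedModule.eq_zero_iff T (AlgebraTensorModule.rTensor R a g)).mpr ⟨⟨_, T.mul_mem ht' t.2⟩, by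
        show (t' * (t : C)) • z = 0
        rw [mul_smul, ht0]⟩
    rw [hz0] at hzs
    exact IsLocalizedModule.smul_injective (AlgebraTensorModule.rTensor R a g) s (hzs.trans (smul_zero _).symm)

variable {R C X : Type u} [CommRing R] [CommRing C] [Algebra R C] [AddCommGroup X] [Module C X] [Module R X]
  [IsScalarTower R C X] {P : ℕ → Type u} [∀ k, AddCommGroup (P k)] [∀ k, Module R (P k)]
  (ε : C →ₐ[R] R) (i : ∀ k, P k →ₗ[R] X) (p : ∀ k, X →ₗ[R] P k) (hd : Decomp i p)
  (hhom : ∀ (c : C) k y, p k (c • i k y) = ε c • y)

include hd hhom in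
/-- A module decomposing homogeneously is flat at a vertex iff all components are. -/
theorem flat_vertex_iff (q : PrimeSpectrum R) :
    Module.Flat R (LocalizedModule (PrimeSpectrum.comap ε.toRingHom q).asIdeal.primeCompl X) ↔
      ∀ k, Module.Flat R (LocalizedModule q.asIdeal.primeCompl (P k)) := by
  classical
  simp only [flat_localized_iff (R := R)]
  constructor
  · intro h k a z hz
    have hZ : a.subtype.lTensor X ((i k).rTensor a z) = 0 := by
      rw [← LinearMap.comp_apply, LinearMap.lTensor_comp_rTensor, ← LinearMap.rTensor_comp_lTensor,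
        LinearMap.comp_apply, hz, map_zero]
    obtain ⟨c, hc, hcz⟩ := h a _ hZ
    refine ⟨ε c, hc, ?_⟩
    have hsmul : ∀ y : P k ⊗[R] a, (p k).rTensor a (c • (i k).rTensor a y) = ε c • y := fun y => by
      induction y with
      | zero => simp
      | tmul y t =>
        rw [LinearMap.rTensor_tmul, TensorProduct.smul_tmul', LinearMap.rTensor_tmul, hhom,
          TensorProduct.smul_tmul']
      | add x y hx hy => simp only [map_add, smul_add, hx, hy]
    rw [← hsmul z, hcz, map_zero]
  · intro h a z hz
    have hD : ∀ v : X ⊗[R] a, ∃ t : Finset ℕ, ∀ t', t ⊆ t' →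
        ∑ k ∈ t', (i k).rTensor a ((p k).rTensor a v) = v := fun v => by
      induction v with
      | zero => exact ⟨∅, fun t _ => by simp⟩
      | tmul x r =>
        obtain ⟨t, ht⟩ := hd x
        exact ⟨t, fun t' ht' => by simp [← TensorProduct.sum_tmul, ht t' ht']⟩
      | add x y hx hy =>
        obtain ⟨t₁, h₁⟩ := hx
        obtain ⟨t₂, h₂⟩ := hy
        refine ⟨t₁ ∪ t₂, fun t' ht' => ?_⟩
        simp only [map_add, Finset.sum_add_distrib]
        rw [h₁ t' (Finset.union_subset_left ht'), h₂ t' (Finset.union_subset_right ht')]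
    obtain ⟨t, ht⟩ := hD z
    have hk : ∀ k, ∃ s ∈ q.asIdeal.primeCompl, s • (p k).rTensor a z = 0 := fun k => h k a _ (by
      rw [← LinearMap.comp_apply, LinearMap.lTensor_comp_rTensor, ← LinearMap.rTensor_comp_lTensor,
        LinearMap.comp_apply, hz, map_zero])
    choose s hs hs0 using hk
    refine ⟨algebraMap R C (∏ k ∈ t, s k), ?_, ?_⟩
    · show ε (algebraMap R C (∏ k ∈ t, s k)) ∉ q.asIdeal
      rw [ε.commutes]
      exact prod_mem fun k _ => hs k
    · rw [algebraMap_smul, ← ht t subset_rfl, Finset.smul_sum]
      refine Finset.sum_eq_zero fun k hk => ?_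
      rw [← map_smul, ← Finset.prod_erase_mul _ _ hk, mul_smul, hs0 k, smul_zero, map_zero]

include hd hhom in
/-- The locus where all components are flat is open. -/
theorem isOpen_flat_components [Algebra.FinitePresentation R C] [Module.FinitePresentation C X] :
    IsOpen {q : PrimeSpectrum R | ∀ k, Module.Flat R (LocalizedModule q.asIdeal.primeCompl (P k))} := by
  simp only [← flat_vertex_iff ε i p hd hhom]
  exact (FlatLocus.isOpen_flat_locus (R := R) (S := C) (M := X)).preimage
    (PrimeSpectrum.continuous_comap ε.toRingHom)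

end Groth.Agent.GrFlatLib
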