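import Groth.Agent.GrFlatLib.Functorial
import Groth.Agent.GrFlatLib.Vertex
import Mathlib.LinearAlgebra.TensorProduct.Quotient

/-!
# The normally flat locus
-/

set_option autoImplicit false
set_option linter.style.haveILetI false
set_option linter.unusedSectionVars false
set_option backward.isDefEq.respectTransparency false
set_option synthInstance.maxHeartbeats 400000
set_option maxHeartbeats 1000000

universe u

open TensorProduct Polynomial
open PolynomialModule (lsingle)

noncomputable section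

namespace Groth.Agent.GrFlatLib

attribute [local instance] Algebra.TensorProduct.rightAlgebra

section Pieces

variable {B : Type u} [CommRing B] (J : Ideal B) (M : Type u) [AddCommGroup M] [Module B M]

theorem smul_grk_eq_zero {j : B} (hj : j ∈ J) {k : ℕ} (y : grk J M k) : j • y = 0 := by
  obtain ⟨_, m, hm, rfl⟩ := y
  refine Subtype.ext ((Submodule.Quotient.mk_eq_zero _).mpr ?_)
  rw [pow_succ', mul_smul]
  exact Submodule.smul_mem_smul hj hm

theorem smul_GR_eq_zero {j : B} (hj : j ∈ J) (x : GR J M) : j • x = 0 :=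
  (decomp_GR J M).eq_zero fun k => by rw [map_smul, smul_grk_eq_zero J M hj, map_zero]

theorem projGR_smul_inclGR (f : reesAlgebra J) (k : ℕ) (y : grk J M k) :
    projGR J M k (f • inclGR J M k y) = (f : B[X]).coeff 0 • y := by
  obtain ⟨_, m, hm, rfl⟩ := y
  refine Subtype.ext ?_
  show proj J M k (Submodule.Quotient.mk ((f : B[X]) • lsingle B k m)) =
    Submodule.Quotient.mk ((f : B[X]).coeff 0 • m)
  rw [proj_mk]
  congr 1
  show ((f : B[X]) • PolynomialModule.single B k m).coeff k = _
  rw [PolynomialModule.smul_single_apply, if_pos le_rfl, Nat.sub_self]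

/-- A graded piece as a quotient. -/
def pieceEquiv (k : ℕ) :
    (↥(J ^ k • (⊤ : Submodule B M)) ⧸ Submodule.comap (J ^ k • (⊤ : Submodule B M)).subtype (J ^ (k + 1) • ⊤)) ≃ₗ[B]
      grk J M k :=
  (Submodule.quotEquivOfEq _ _ (by rw [LinearMap.ker_comp, Submodule.ker_mkQ])).trans
    ((LinearMap.quotKerEquivRange ((J ^ (k + 1) • (⊤ : Submodule B M)).mkQ ∘ₗ
      (J ^ k • (⊤ : Submodule B M)).subtype)).trans
        (LinearEquiv.ofEq _ _ (by rw [LinearMap.range_comp, Submodule.range_subtype]; rfl)))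

end Pieces

section Algebra

variable {S A B B₀ : Type u} [CommRing S] [CommRing A] [Algebra S A] [CommRing B] [Algebra S B]
  [CommRing B₀] [Algebra S B₀] [Algebra A B₀] [IsScalarTower S A B₀] [Algebra B B₀] [IsScalarTower S B B₀]
  {J : Ideal B} {J₀ : Ideal B₀} (hle : J.map (algebraMap B B₀) ≤ J₀)

variable (S) in
/-- The map of Rees algebras over the base. -/
def reesMapₐ : reesAlgebra J →ₐ[S] reesAlgebra J₀ :=
  { reesMap hle with
    commutes' := fun s => Subtype.ext <| by
      show ((algebraMap S B[X] s).map (algebraMap B B₀)) = algebraMap S B₀[X] s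
      rw [IsScalarTower.algebraMap_apply S B B[X], IsScalarTower.algebraMap_apply S B₀ B₀[X]]
      exact (Polynomial.map_C _).trans (congrArg C (IsScalarTower.algebraMap_apply S B B₀ s).symm) }

variable (S A) in
/-- The base change of the Rees algebra maps to the Rees algebra. -/
def tau : A ⊗[S] reesAlgebra J →ₐ[A] reesAlgebra J₀ :=
  Algebra.TensorProduct.lift (Algebra.ofId A (reesAlgebra J₀)) (reesMapₐ S hle) fun _ _ => Commute.all _ _

theorem tau_tmul (a : A) (c : reesAlgebra J) :
    tau S A hle (a ⊗ₜ c) = algebraMap A (reesAlgebra J₀) a * reesMap hle c :=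
  Algebra.TensorProduct.lift_tmul _ _ _ _ _

variable (S A B) in
/-- The surjection from the base change. -/
def piB (B₀ : Type u) [CommRing B₀] [Algebra S B₀] [Algebra A B₀] [IsScalarTower S A B₀] [Algebra B B₀]
    [IsScalarTower S B B₀] : A ⊗[S] B →ₐ[A] B₀ :=
  Algebra.TensorProduct.lift (Algebra.ofId A B₀) (IsScalarTower.toAlgHom S B B₀) fun _ _ => Commute.all _ _

variable (S A J) in
/-- The degree zero part of the base change. -/
def gam : A ⊗[S] B →ₐ[A] A ⊗[S] reesAlgebra J :=
  Algebra.TensorProduct.map (AlgHom.id A A) (IsScalarTower.toAlgHom S B (reesAlgebra J))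

theorem tau_gam (p : A ⊗[S] B) :
    tau S A hle (gam S A J p) = algebraMap B₀ (reesAlgebra J₀) (piB S A B B₀ p) := by
  induction p with
  | zero => simp
  | tmul a b =>
    rw [gam, piB, Algebra.TensorProduct.map_tmul, tau_tmul, Algebra.TensorProduct.lift_tmul, map_mul]
    congr 1
    exact reesMap_algebraMap hle b
  | add x y hx hy => simp only [map_add, hx, hy]

variable (S A) in
/-- The augmentation. -/
def eps₀ : A ⊗[S] reesAlgebra J →ₐ[A] B₀ ⧸ J₀ :=
  ((Ideal.Quotient.mkₐ A J₀).comp ((Polynomial.aeval (R := B₀) (0 : B₀)).restrictScalars A)).comp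
    (((reesAlgebra J₀).val.restrictScalars A).comp (tau S A hle))

theorem eps₀_apply (c : A ⊗[S] reesAlgebra J) :
    eps₀ S A hle c = Ideal.Quotient.mk J₀ ((tau S A hle c : B₀[X]).coeff 0) :=
  congrArg (Ideal.Quotient.mk J₀) (Polynomial.coeff_zero_eq_aeval_zero _).symm

theorem eps₀_gam (p : A ⊗[S] B) : eps₀ S A hle (gam S A J p) = Ideal.Quotient.mk J₀ (piB S A B B₀ p) := by
  rw [eps₀_apply, tau_gam]
  exact congrArg (Ideal.Quotient.mk J₀) Polynomial.coeff_C_zero

end Algebra

section Augmented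

/-- Openness of the flat locus of the components of a module with an augmented ring of operators. -/
theorem isOpen_flat_components_of_aug {A P Rb C X : Type u} [CommRing A] [CommRing P] [CommRing Rb]
    [CommRing C] [Algebra A P] [Algebra A Rb] [Algebra A C] [Algebra.FinitePresentation A P]
    [Algebra.FinitePresentation A Rb] [Algebra.FinitePresentation A C] (φ : P →ₐ[A] Rb)
    (hφ : Function.Surjective φ) (γ : P →ₐ[A] C) (ε₀ : C →ₐ[A] Rb) (hεγ : ∀ x, ε₀ (γ x) = φ x)
    [AddCommGroup X] [Module C X] [Module Rb X] [Module.FinitePresentation C X]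
    (hγ : ∀ (x : P) (y : X), γ x • y = φ x • y) {Pk : ℕ → Type u} [∀ k, AddCommGroup (Pk k)]
    [∀ k, Module Rb (Pk k)] (i : ∀ k, Pk k →ₗ[Rb] X) (p : ∀ k, X →ₗ[Rb] Pk k) (hd : Decomp i p)
    (hhom : ∀ (c : C) k y, p k (c • i k y) = ε₀ c • y) :
    IsOpen {q : PrimeSpectrum Rb | ∀ k, Module.Flat Rb (LocalizedModule q.asIdeal.primeCompl (Pk k))} := by
  let I : Ideal C := (RingHom.ker φ.toRingHom).map γ
  haveI : Algebra.FinitePresentation A (C ⧸ I) :=
    Algebra.FinitePresentation.quotient ((Algebra.FinitePresentation.ker_fG_of_surjective φ hφ).map _)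
  let ρ : Rb →+* C ⧸ I :=
    RingHom.liftOfSurjective φ.toRingHom hφ ⟨(Ideal.Quotient.mk I).comp γ.toRingHom,
      fun x hx => Ideal.Quotient.eq_zero_iff_mem.mpr (Ideal.mem_map_of_mem _ hx)⟩
  have hρ : ∀ x, ρ (φ x) = Ideal.Quotient.mk I (γ x) := fun x =>
    RingHom.liftOfRightInverse_comp_apply _ _ _ _ x
  letI : Algebra Rb (C ⧸ I) := ρ.toAlgebra' fun _ _ => (Ideal.Quotient.commRing I).mul_comm _ _
  haveI : IsScalarTower A Rb (C ⧸ I) := .of_algebraMap_eq fun a => by
    show _ = ρ (algebraMap A Rb a)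
    rw [← φ.commutes a, hρ, γ.commutes]
    rfl
  haveI : Algebra.FinitePresentation Rb (C ⧸ I) :=
    Algebra.FinitePresentation.of_restrict_scalars_finitePresentation A Rb (C ⧸ I)
  have hI : I ≤ RingHom.ker ε₀.toRingHom := Ideal.map_le_iff_le_comap.mpr fun x hx => by
    show ε₀ (γ x) = 0
    rw [hεγ]
    exact hx
  let ε : (C ⧸ I) →ₐ[Rb] Rb :=
    { Ideal.Quotient.lift I ε₀.toRingHom hI with
      commutes' := fun r => by
        obtain ⟨x, rfl⟩ := hφ r
        show Ideal.Quotient.lift I ε₀.toRingHom hI (ρ (φ x)) = φ x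
        rw [hρ, Ideal.Quotient.lift_mk]
        exact hεγ x }
  have hann : I ≤ Module.annihilator C X := Ideal.map_le_iff_le_comap.mpr fun x hx =>
    Module.mem_annihilator.mpr fun y => by rw [hγ, show φ x = 0 from hx, zero_smul]
  have htor : Module.IsTorsionBySet C X I := fun y c => Module.mem_annihilator.mp (hann c.2) y
  letI : Module (C ⧸ I) X := htor.module
  haveI : IsScalarTower C (C ⧸ I) X := htor.isScalarTower
  haveI : Module.FinitePresentation (C ⧸ I) X := by
    have h0 : I • (⊤ : Submodule C X) = ⊥ := by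
      rw [eq_bot_iff, Submodule.smul_le]
      exact fun c hc x _ => (Submodule.mem_bot _).mpr (@htor x ⟨c, hc⟩)
    exact Module.FinitePresentation.of_equiv (LinearEquiv.extendScalarsOfSurjective
      (Ideal.Quotient.mk_surjective (I := I))
      ((TensorProduct.quotTensorEquivQuotSMul X I).trans (Submodule.quotEquivOfEqBot _ h0)))
  haveI : IsScalarTower Rb (C ⧸ I) X := .of_algebraMap_smul fun r y => by
    obtain ⟨x, rfl⟩ := hφ r
    show ρ (φ x) • y = _
    rw [hρ]
    exact hγ x y
  refine isOpen_flat_components ε i p hd fun d k y => ?_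
  obtain ⟨c, rfl⟩ := Ideal.Quotient.mk_surjective d
  exact hhom c k y

end Augmented

section Core

variable {S A B B₀ : Type u} [CommRing S] [IsNoetherianRing S] [CommRing A] [Algebra S A] [CommRing B]
  [Algebra S B] [Algebra.FiniteType S B] [CommRing B₀] [Algebra S B₀] [Algebra A B₀] [IsScalarTower S A B₀]
  [Algebra B B₀] [IsScalarTower S B B₀] {J : Ideal B} {J₀ : Ideal B₀}
  {M M₀ : Type u} [AddCommGroup M] [Module B M] [Module S M] [IsScalarTower S B M] [Module.Finite B M]
  [AddCommGroup M₀] [Module B₀ M₀] [Module B M₀] [IsScalarTower B B₀ M₀] [Module A M₀]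
  [IsScalarTower A B₀ M₀] [Module S M₀] [IsScalarTower S A M₀] [IsScalarTower S B M₀] [IsScalarTower S B₀ M₀]
  {μ : M →ₗ[B] M₀} (h : IsModel (S := S) (A := A) J J₀ μ)
  (R : Type u) [CommRing R] [Algebra S R] [Algebra.FiniteType S R] [Algebra R A] [IsScalarTower S R A]
  (hR : FlatQ S J M R)

include h in
theorem IsModel.piB_surjective : Function.Surjective (piB S A B B₀) := fun b₀ => by
  induction h.surj b₀ using Submodule.span_induction with
  | mem x hx =>
    obtain ⟨b, rfl⟩ := hx
    exact ⟨1 ⊗ₜ b, by rw [piB, Algebra.TensorProduct.lift_tmul, map_one, one_mul]; rfl⟩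
  | zero => exact ⟨0, map_zero _⟩
  | add x y _ _ hx hy =>
    obtain ⟨x, rfl⟩ := hx
    obtain ⟨y, rfl⟩ := hy
    exact ⟨x + y, map_add _ _ _⟩
  | smul a x _ hx =>
    obtain ⟨x, rfl⟩ := hx
    exact ⟨a • x, map_smul _ _ _⟩

include hR in
omit [IsScalarTower S B B₀] in
theorem exists_finite_ker_ι : ∃ G : Finset (A ⊗[S] GR J M),
    (G : Set (A ⊗[S] GR J M)) ⊆ LinearMap.ker ((ιS S J M).baseChange A) ∧
      LinearMap.ker ((ιS S J M).baseChange A) ≤ cspan (C := reesAlgebra J) A (G : Set (A ⊗[S] GR J M)) := by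
  classical
  haveI := Algebra.FiniteType.isNoetherianRing S B
  haveI := Algebra.FiniteType.isNoetherianRing S R
  haveI := finiteType_rees J S (fg_ideal (S := S) J)
  haveI := finite_GR J M
  haveI : IsNoetherianRing (R ⊗[S] reesAlgebra J) := Algebra.FiniteType.isNoetherianRing R _
  obtain ⟨G, hG, hgen⟩ := exists_finite_ker (S := S) (C := reesAlgebra J) R (GR J M).subtype
  refine ⟨G.image (bc R A _), ?_, ?_⟩
  · rw [Finset.coe_image]
    rintro _ ⟨g, hg, rfl⟩
    exact bc_ker_le _ (hG hg)
  · rw [Finset.coe_image]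
    exact LE.le.trans (LE.le.trans (ker_ιS_le J M R A hR) (Submodule.span_mono (Set.image_mono hgen)))
      (bc_span_cspan_le R (G : Set (R ⊗[S] GR J M)))

set_option maxHeartbeats 6000000 in


include hR in
theorem IsModel.finitePresentation_GR [Module (A ⊗[S] reesAlgebra J) (GR J₀ M₀)]
    (hmod : ∀ (c : A ⊗[S] reesAlgebra J) (x : GR J₀ M₀), c • x = tau S A h.le c • x) :
    Module.FinitePresentation (A ⊗[S] reesAlgebra J) (GR J₀ M₀) := by
  classical
  haveI := Algebra.FiniteType.isNoetherianRing S B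
  haveI := finiteType_rees J S (fg_ideal (S := S) J)
  haveI := finite_GR J M
  haveI : IsNoetherianRing (reesAlgebra J) := Algebra.FiniteType.isNoetherianRing S _
  haveI : Module.FinitePresentation (reesAlgebra J) (GR J M) :=
    Module.finitePresentation_of_finite (reesAlgebra J) (GR J M)
  letI : Module (reesAlgebra J) (GR J₀ M₀) := Module.compHom _ (reesMap h.le)
  haveI : IsScalarTower (reesAlgebra J) (A ⊗[S] reesAlgebra J) (GR J₀ M₀) :=
    .of_algebraMap_smul fun c x => by
      rw [hmod, RingHom.algebraMap_toAlgebra]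
      show tau S A h.le ((1 : A) ⊗ₜ c) • x = reesMap h.le c • x
      rw [tau_tmul, map_one, one_mul]
  let gm : GR J M →ₗ[reesAlgebra J] GR J₀ M₀ :=
    { toFun := fun z => ⟨wMap h.le μ z.1, wMap_mem h.le μ z.2⟩
      map_add' := fun x y => Subtype.ext (map_add (wMap h.le μ) x.1 y.1)
      map_smul' := fun c z => Subtype.ext (wMap_smul h.le μ c z.1) }
  let Ψ := gm.liftBaseChange (A ⊗[S] reesAlgebra J)
  have hΨ : ∀ x, (Ψ x).1 = grLift S A h.le μ (eC (C := reesAlgebra J) A (GR J M) x) := by
    intro x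
    induction x with
    | zero => simp
    | tmul z n =>
      rw [LinearMap.liftBaseChange_tmul, hmod]
      induction z with
      | zero => simp
      | tmul a c =>
        rw [eC_tmul, tau_tmul]
        show (algebraMap A (reesAlgebra J₀) a * reesMap h.le c) • wMap h.le μ n.1 =
          a • wMap h.le μ (c • n.1)
        rw [mul_smul, wMap_smul, algebraMap_smul]
      | add x y hx hy => simp only [map_add, add_smul, Submodule.coe_add, TensorProduct.add_tmul, hx, hy]
    | add x y hx hy => simp only [map_add, Submodule.coe_add, hx, hy]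
  have hs : Function.Surjective Ψ := fun x => by
    obtain ⟨z, hz⟩ := h.grLift_range x.2
    obtain ⟨y, rfl⟩ := (eC (C := reesAlgebra J) A (GR J M)).surjective z
    exact ⟨y, Subtype.ext ((hΨ y).trans hz)⟩
  have hker : LinearMap.ker Ψ = LinearMap.ker ((GR J M).subtype.baseChange (A ⊗[S] reesAlgebra J)) := by
    ext x
    rw [LinearMap.mem_ker, ← Submodule.coe_eq_zero, hΨ, mem_kerC, LinearMap.mem_ker]
    exact (map_eq_zero_iff _ (IsModel.wLift_injective J J₀ h))
  obtain ⟨G, hG, hgen⟩ := exists_finite_ker_ι (J := J) (M := M) R hR (A := A)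
  haveI := finite_kerC (S := S) A (GR J M).subtype G hG hgen
  refine Module.finitePresentation_of_surjective Ψ hs ?_
  rw [hker]
  exact Module.Finite.iff_fg.mp inferInstance

include h hR in
/-- The locus where all graded pieces are flat over the quotient is open. -/
theorem IsModel.isOpen_flat_pieces [Algebra.FinitePresentation A B₀] (hJ₀ : J₀.FG)
    [∀ k, Module (B₀ ⧸ J₀) (grk J₀ M₀ k)] [∀ k, IsScalarTower B₀ (B₀ ⧸ J₀) (grk J₀ M₀ k)] :
    IsOpen {q : PrimeSpectrum (B₀ ⧸ J₀) | ∀ k,
      Module.Flat (B₀ ⧸ J₀) (LocalizedModule q.asIdeal.primeCompl (grk J₀ M₀ k))} := by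
  classical
  haveI := Algebra.FiniteType.isNoetherianRing S B
  haveI := finiteType_rees J S (fg_ideal (S := S) J)
  haveI : Algebra.FinitePresentation S (reesAlgebra J) :=
    Algebra.FinitePresentation.of_finiteType.mp inferInstance
  haveI : Algebra.FinitePresentation S B := Algebra.FinitePresentation.of_finiteType.mp inferInstance
  haveI : Algebra.FinitePresentation A (A ⊗[S] B) := Algebra.FinitePresentation.baseChange A
  haveI : Algebra.FinitePresentation A (A ⊗[S] reesAlgebra J) := Algebra.FinitePresentation.baseChange A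
  haveI : Algebra.FinitePresentation A (B₀ ⧸ J₀) := Algebra.FinitePresentation.quotient hJ₀
  let φ : A ⊗[S] B →ₐ[A] B₀ ⧸ J₀ := (Ideal.Quotient.mkₐ A J₀).comp (piB S A B B₀)
  have hφ : Function.Surjective φ := Ideal.Quotient.mk_surjective.comp h.piB_surjective
  letI mC : Module (A ⊗[S] reesAlgebra J) (GR J₀ M₀) := Module.compHom _ (tau S A h.le).toRingHom
  haveI : Module.FinitePresentation (A ⊗[S] reesAlgebra J) (GR J₀ M₀) :=
    h.finitePresentation_GR R hR fun _ _ => rfl
  have htor : Module.IsTorsionBySet B₀ (GR J₀ M₀) J₀ := fun y j => smul_GR_eq_zero J₀ M₀ j.2 y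
  letI : Module (B₀ ⧸ J₀) (GR J₀ M₀) := htor.module
  haveI : IsScalarTower B₀ (B₀ ⧸ J₀) (GR J₀ M₀) := htor.isScalarTower
  refine isOpen_flat_components_of_aug φ hφ (gam S A J) (eps₀ S A h.le) (eps₀_gam h.le) ?_
    (fun k => (inclGR J₀ M₀ k).extendScalarsOfSurjective Ideal.Quotient.mk_surjective)
    (fun k => (projGR J₀ M₀ k).extendScalarsOfSurjective Ideal.Quotient.mk_surjective)
    (decomp_GR J₀ M₀) ?_
  · intro p y
    show tau S A h.le (gam S A J p) • y = Ideal.Quotient.mk J₀ (piB S A B B₀ p) • y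
    rw [tau_gam, algebraMap_smul]
    rfl
  · intro c k y
    show projGR J₀ M₀ k (tau S A h.le c • inclGR J₀ M₀ k y) = eps₀ S A h.le c • y
    rw [projGR_smul_inclGR, eps₀_apply, ← Ideal.Quotient.algebraMap_eq, algebraMap_smul]

end Core

/-- The tensor product with a quotient of a module over the quotient. -/
def quotTensorSelf {R : Type u} [CommRing R] (I : Ideal R) (L : Type u) [AddCommGroup L] [Module R L]
    [Module (R ⧸ I) L] [IsScalarTower R (R ⧸ I) L] : (R ⧸ I) ⊗[R] L ≃ₗ[R ⧸ I] L :=
  LinearEquiv.ofBijective ((LinearMap.id : L →ₗ[R] L).liftBaseChange (R ⧸ I)) <| by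
    have key : ∀ z : (R ⧸ I) ⊗[R] L,
        (1 : R ⧸ I) ⊗ₜ[R] (LinearMap.id : L →ₗ[R] L).liftBaseChange (R ⧸ I) z = z := fun z => by
      induction z with
      | zero => simp
      | tmul a x =>
        obtain ⟨r, rfl⟩ := Ideal.Quotient.mk_surjective a
        rw [LinearMap.liftBaseChange_tmul, LinearMap.id_apply, ← Ideal.Quotient.algebraMap_eq,
          algebraMap_smul, ← TensorProduct.smul_tmul, ← Algebra.algebraMap_eq_smul_one]
      | add x y hx hy => rw [map_add, TensorProduct.tmul_add, hx, hy]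
    refine ⟨fun a b hab => ?_, fun x => ⟨1 ⊗ₜ x, by rw [LinearMap.liftBaseChange_tmul, one_smul, LinearMap.id_apply]⟩⟩
    rw [← key a, hab, key b]

theorem flat_tensor_localized_iff {R N N' : Type u} [CommRing R] (I : Ideal R) [AddCommGroup N] [Module R N]
    [AddCommGroup N'] [Module R N'] [Module (R ⧸ I) N'] [IsScalarTower R (R ⧸ I) N'] (e : N ≃ₗ[R] N')
    (q : PrimeSpectrum (R ⧸ I)) :
    Module.Flat (R ⧸ I) ((R ⧸ I) ⊗[R]
        LocalizedModule (PrimeSpectrum.comap (Ideal.Quotient.mk I) q).asIdeal.primeCompl N) ↔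
      Module.Flat (R ⧸ I) (LocalizedModule q.asIdeal.primeCompl N') := by
  let p := (PrimeSpectrum.comap (Ideal.Quotient.mk I) q).asIdeal
  have hP : Algebra.algebraMapSubmonoid (R ⧸ I) p.primeCompl = q.asIdeal.primeCompl := by
    ext x
    constructor
    · rintro ⟨y, hy, rfl⟩; exact hy
    · intro hx
      obtain ⟨y, rfl⟩ := Ideal.Quotient.mk_surjective x
      exact ⟨y, hx, rfl⟩
  haveI : IsLocalizedModule (Algebra.algebraMapSubmonoid (R ⧸ I) p.primeCompl)
      (LocalizedModule.mkLinearMap q.asIdeal.primeCompl N') := by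
    rw [hP]; infer_instance
  let g : N' →ₗ[R] LocalizedModule q.asIdeal.primeCompl N' :=
    (LocalizedModule.mkLinearMap q.asIdeal.primeCompl N').restrictScalars R
  haveI : IsLocalizedModule p.primeCompl g := IsLocalizedModule.restrictScalars _ _
  haveI : IsLocalizedModule p.primeCompl (g ∘ₗ e.toLinearMap) :=
    IsLocalizedModule.of_linearEquiv_right _ _ _
  exact Module.Flat.equiv_iff
    ((AlgebraTensorModule.congr (LinearEquiv.refl (R ⧸ I) (R ⧸ I))
      (IsLocalizedModule.iso p.primeCompl (g ∘ₗ e.toLinearMap))).trans (quotTensorSelf I _))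

/-- An implication on a closed set defines an open set. -/
theorem isOpen_imp_of_quotient {R : Type u} [CommRing R] (I : Ideal R) {P : PrimeSpectrum R → Prop}
    {U : Set (PrimeSpectrum (R ⧸ I))} (hU : IsOpen U)
    (h : ∀ q, P (PrimeSpectrum.comap (Ideal.Quotient.mk I) q) ↔ q ∈ U) :
    IsOpen {p : PrimeSpectrum R | I ≤ p.asIdeal → P p} := by
  have hc := (PrimeSpectrum.isClosedEmbedding_comap_of_surjective (R ⧸ I) (Ideal.Quotient.mk I)
    Ideal.Quotient.mk_surjective).isClosedMap _ hU.isClosed_compl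
  convert hc.isOpen_compl using 1
  ext p
  constructor
  · rintro hp ⟨q, hq, rfl⟩
    exact hq ((h q).mp (hp fun x hx => by
      show Ideal.Quotient.mk I x ∈ q.asIdeal
      rw [Ideal.Quotient.eq_zero_iff_mem.mpr hx]
      exact zero_mem _))
  · intro hp hI
    by_contra hP
    obtain ⟨q, rfl⟩ : p ∈ Set.range (PrimeSpectrum.comap (Ideal.Quotient.mk I)) := by
      rw [range_comap_of_surjective _ _ Ideal.Quotient.mk_surjective, PrimeSpectrum.mem_zeroLocus,
        Ideal.mk_ker]
      exact hI
    exact hp ⟨q, fun hq => hP ((h q).mpr hq), rfl⟩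

end Groth.Agent.GrFlatLib
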