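import Groth.Agent.GrFlatLib.Graded
import Groth.Agent.GrFlatLib.Abstract
import Groth.Agent.FlatStage.AlgGlobal
import Groth.Agent.GenFree.Algebra

/-!
# Flatness of all the truncations descends to a finitely generated base

Let `S` be Noetherian, `B` a finite type `S`-algebra, `J` an ideal of `B` and `M` a finite `B`-module.
If `A ⊗ M / J^k M` is flat over `A` for all `k`, the same holds over an algebra of finite type over `S`
through which `S → A` factors.
-/

set_option autoImplicit false
set_option linter.style.haveILetI false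
set_option linter.unusedSectionVars false
set_option backward.isDefEq.respectTransparency false
set_option synthInstance.maxHeartbeats 400000

universe u

open TensorProduct

noncomputable section

namespace Groth.Agent.GrFlatLib

attribute [local instance] Algebra.TensorProduct.rightAlgebra

theorem fg_trans' {S R A : Type u} [CommRing S] [CommRing R] [CommRing A] [Algebra S R] [Algebra S A]
    [Algebra R A] [IsScalarTower S R A] [Algebra.FiniteType S R] (T : Subalgebra R A) (hT : T.FG) :
    Algebra.FiniteType S T :=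
  haveI : Algebra.FiniteType R T := (Subalgebra.fg_iff_finiteType T).1 hT
  Algebra.FiniteType.trans (S := R) inferInstance inferInstance

/-- The system of finitely generated subalgebras. -/
def subSys (S A : Type u) [CommRing S] [CommRing A] [Algebra S A] : PullbackMod.AlgSystem S A where
  J := {T : Subalgebra S A // T.FG}
  R T := T.1
  ρ T := T.1.val
  Hom T T' := ULift (PLift (T.1 ≤ T'.1))
  τ f := Subalgebra.inclusion f.down.down
  comm _ := rfl
  comp f g := ⟨⟨⟨f.down.down.trans g.down.down⟩⟩, rfl⟩
  surj T a := by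
    classical
    refine ⟨⟨T.1 ⊔ Algebra.adjoin S {a}, T.2.sup ⟨{a}, by rw [Finset.coe_singleton]⟩⟩,
      ⟨⟨le_sup_left⟩⟩, ⟨a, (le_sup_right : _ ≤ T.1 ⊔ Algebra.adjoin S {a}) (Algebra.self_mem_adjoin_singleton S a)⟩, rfl⟩
  inj T a ha := ⟨T, ⟨⟨le_rfl⟩⟩, Subtype.ext ha⟩

theorem subSys_dir (S A : Type u) [CommRing S] [CommRing A] [Algebra S A] :
    ∀ i j : (subSys S A).J, ∃ k, Nonempty ((subSys S A).Hom i k) ∧ Nonempty ((subSys S A).Hom j k) :=
  fun i j => ⟨⟨i.1 ⊔ j.1, i.2.sup j.2⟩, ⟨⟨⟨le_sup_left⟩⟩⟩, ⟨⟨⟨le_sup_right⟩⟩⟩⟩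

variable {S B : Type u} [CommRing S] [CommRing B] [Algebra S B] (J : Ideal B)
  (M : Type u) [AddCommGroup M] [Module B M] [Module S M] [IsScalarTower S B M]

variable (S) in
/-- The inclusion of the graded module. -/
def ιS : GR J M →ₗ[S] W J M := (GR J M).subtype.restrictScalars S

variable (S) in
/-- The inclusion of a graded piece. -/
def fS (k : ℕ) : grk J M k →ₗ[S] Q J M (k + 1) := (grk J M k).subtype.restrictScalars S

variable (S) in
/-- The map between consecutive truncations. -/
def qS (k : ℕ) : Q J M (k + 1) →ₗ[S] Q J M k := (qmap J M k).restrictScalars S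

theorem exact_qS (k : ℕ) : Function.Exact (fS S J M k) (qS S J M k) := exact_qmap J M k

theorem qS_surjective (k : ℕ) : Function.Surjective (qS S J M k) := qmap_surjective J M k

variable (S) in
/-- The components. -/
def comp : Comp (ιS S J M) (fS S J M) where
  iN k := (inclGR J M k).restrictScalars S
  pN k := (projGR J M k).restrictScalars S
  iV k := (incl J M k).restrictScalars S
  pV k := (proj J M k).restrictScalars S
  comm_i k := LinearMap.ext fun x => subtype_inclGR J M k x
  comm_p k := LinearMap.ext fun x => subtype_projGR J M k x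
  pN_iN k := LinearMap.ext fun x => projGR_inclGR J M k x
  dN := decomp_GR J M
  dV := decomp_W J M

variable (S) in
/-- All truncations are flat. -/
def FlatQ (R : Type u) [CommRing R] [Algebra S R] : Prop :=
  ∀ k, Module.Flat R (R ⊗[S] Q J M k)

section

variable (R : Type u) [CommRing R] [Algebra S R]

theorem projR_cs (k : ℕ) (b : B) (x : R ⊗[S] GR J M) :
    ((comp S J M).pN k).baseChange R (cs R (algebraMap B (reesAlgebra J) b) x) =
      cs R b (((comp S J M).pN k).baseChange R x) := by
  induction x with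
  | zero => simp
  | tmul r z =>
    exact congrArg (r ⊗ₜ[S] ·) ((congrArg (projGR J M k) (algebraMap_smul (reesAlgebra J) b z)).trans
      (map_smul (projGR J M k) b z))
  | add x y hx hy => simp only [map_add, hx, hy]

theorem cs_mem_ker (c : reesAlgebra J) {x : R ⊗[S] GR J M}
    (hx : x ∈ LinearMap.ker ((ιS S J M).baseChange R)) :
    cs R c x ∈ LinearMap.ker ((ιS S J M).baseChange R) := by
  rw [LinearMap.mem_ker]
  refine (cs_natural R (GR J M).subtype c x).trans ?_
  rw [show ((GR J M).subtype.restrictScalars S).baseChange R x = 0 from hx, map_zero]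

theorem flat_Q_zero : Module.Flat R (R ⊗[S] Q J M 0) := by
  haveI : Subsingleton (Q J M 0) := Submodule.Quotient.subsingleton_iff.mpr
    (by rw [pow_zero, Ideal.one_eq_top, Submodule.top_smul])
  infer_instance

theorem flat_range_fS (h : FlatQ S J M R) (k : ℕ) :
    Module.Flat R (LinearMap.range ((fS S J M k).baseChange R)) :=
  haveI := h (k + 1)
  haveI := h k
  flat_range_baseChange _ _ R (exact_qS J M k) (qS_surjective J M k)

theorem flat_range_ιS (h : FlatQ S J M R) : Module.Flat R (LinearMap.range ((ιS S J M).baseChange R)) :=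
  (comp S J M).flat_range R (flat_range_fS J M R h)

theorem flatQ_of_range [Module.Flat R (LinearMap.range ((ιS S J M).baseChange R))] :
    FlatQ S J M R := by
  intro k
  induction k with
  | zero => exact flat_Q_zero J M R
  | succ k ih =>
    haveI := ih
    haveI := (comp S J M).flat_component R k
    exact flat_of_flat_range _ _ R (exact_qS J M k) (qS_surjective J M k)

end

section

variable (R R' : Type u) [CommRing R] [Algebra S R] [CommRing R'] [Algebra S R'] [Algebra R R']
  [IsScalarTower S R R']

theorem flat_base_change {N : Type u} [AddCommGroup N] [Module S N] [Module.Flat R (R ⊗[S] N)] :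
    Module.Flat R' (R' ⊗[S] N) :=
  FlatStage.flat_of_stage (A := S) (R := R') R N

theorem ker_fS_le (k : ℕ) [Module.Flat R (R ⊗[S] Q J M k)] :
    LinearMap.ker ((fS S J M k).baseChange R') ≤
      Submodule.span R' (bc R R' _ '' (LinearMap.ker ((fS S J M k).baseChange R) : Set (R ⊗[S] grk J M k))) :=
  ker_le_of_exact _ _ R (exact_qS J M k) (qS_surjective J M k) R'

theorem ker_ιS_le (h : FlatQ S J M R) :
    LinearMap.ker ((ιS S J M).baseChange R') ≤
      Submodule.span R' (bc R R' _ '' (LinearMap.ker ((ιS S J M).baseChange R) : Set (R ⊗[S] GR J M))) :=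
  (comp S J M).ker_le R R' fun k => haveI := h k; ker_fS_le J M R R' k

theorem flatQ_of_injective
    (hinj : Function.Injective ((LinearMap.range ((ιS S J M).baseChange R)).subtype.lTensor R'))
    [Module.Flat R' (R' ⊗[R] LinearMap.range ((ιS S J M).baseChange R))] : FlatQ S J M R' :=
  haveI := flat_range_of_injective (ιS S J M) R R' hinj
  flatQ_of_range J M R'

end

section

variable [IsNoetherianRing S] [Algebra.FiniteType S B] [Module.Finite B M]

include S in
theorem fg_ideal : J.FG :=
  haveI := Algebra.FiniteType.isNoetherianRing S B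
  IsNoetherian.noetherian J

theorem exists_degree (R : Type u) [CommRing R] [Algebra S R] [IsNoetherianRing R] :
    ∃ d, LinearMap.ker ((ιS S J M).baseChange R) ≤ (comp S J M).low (reesAlgebra J) d R := by
  classical
  haveI := Algebra.FiniteType.isNoetherianRing S B
  haveI := finiteType_rees J S (fg_ideal (S := S) J)
  haveI : IsNoetherianRing (R ⊗[S] reesAlgebra J) := Algebra.FiniteType.isNoetherianRing R _
  haveI := finite_GR J M
  obtain ⟨G, hG, hgen⟩ := exists_finite_ker (S := S) (C := reesAlgebra J) R (GR J M).subtype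
  obtain ⟨d, hd⟩ := (comp S J M).exists_degree (C := reesAlgebra J) R G hG
  exact ⟨d, LE.le.trans hgen hd⟩

/-- The image seen as a module over the Rees algebra. -/
def rangeRees (R : Type u) [CommRing R] [Algebra S R] :
    LinearMap.range ((GR J M).subtype.baseChange (R ⊗[S] reesAlgebra J)) ≃ₗ[R]
      LinearMap.range ((ιS S J M).baseChange R) :=
  rangeEquiv R (GR J M).subtype

/-- Generic flatness of the truncations over an integral base. -/
theorem exists_away_flatQ (R : Type u) [CommRing R] [IsDomain R] [IsNoetherianRing R] [Algebra S R] :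
    ∃ f : R, f ≠ 0 ∧ FlatQ S J M (Localization.Away f) := by
  haveI := Algebra.FiniteType.isNoetherianRing S B
  haveI := finiteType_rees J S (fg_ideal (S := S) J)
  haveI := finite_GR J M
  haveI : IsNoetherianRing (R ⊗[S] reesAlgebra J) := Algebra.FiniteType.isNoetherianRing R _
  obtain ⟨f, -, hf, hfree, -⟩ := GenFree.exists_generic (R := R) (S := R ⊗[S] reesAlgebra J)
    (M := LinearMap.range ((GR J M).subtype.baseChange (R ⊗[S] reesAlgebra J))) (one_ne_zero (α := R))
  refine ⟨f, hf, ?_⟩
  haveI : Module.Free (Localization.Away f) (Localization.Away f ⊗[R]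
      LinearMap.range ((GR J M).subtype.baseChange (R ⊗[S] reesAlgebra J))) := hfree
  haveI : Module.Flat (Localization.Away f)
      (Localization.Away f ⊗[R] LinearMap.range ((ιS S J M).baseChange R)) :=
    Module.Flat.of_linearEquiv (AlgebraTensorModule.congr (LinearEquiv.refl (Localization.Away f) _)
      (rangeRees J M R)).symm
  exact flatQ_of_injective J M R _
    (Module.Flat.lTensor_preserves_injective_linearMap _ Subtype.val_injective)

theorem ker_le_low_of_flat (R κ : Type u) [CommRing R] [CommRing κ] [Algebra S R] [Algebra S κ]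
    [Algebra R κ] [IsScalarTower S R κ] {d : ℕ} (hflat : FlatQ S J M R)
    (hd : LinearMap.ker ((ιS S J M).baseChange R) ≤ (comp S J M).low (reesAlgebra J) d R) :
    LinearMap.ker ((ιS S J M).baseChange κ) ≤ (comp S J M).low (reesAlgebra J) d κ :=
  (comp S J M).ker_le_low R κ (ker_ιS_le J M R κ hflat) hd

variable (S) in
/-- The relations on the fibres over `V(I)` have bounded degree. -/
def Bdd (I : Ideal S) : Prop :=
  ∃ d, ∀ (κ : Type u) [Field κ] [Algebra S κ],
    I ≤ RingHom.ker (algebraMap S κ) → LinearMap.ker ((ιS S J M).baseChange κ) ≤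
      (comp S J M).low (reesAlgebra J) d κ

theorem bdd_of_mul {I : Ideal S} {a b : S} (hab : a * b ∈ I) (ha : Bdd S J M (I ⊔ Ideal.span {a}))
    (hb : Bdd S J M (I ⊔ Ideal.span {b})) : Bdd S J M I := by
  obtain ⟨d₁, hd₁⟩ := ha
  obtain ⟨d₂, hd₂⟩ := hb
  refine ⟨max d₁ d₂, fun κ _ _ hκ => ?_⟩
  rcases mul_eq_zero.mp ((map_mul (algebraMap S κ) a b).symm.trans (hκ hab)) with h | h
  · exact LE.le.trans (hd₁ κ (sup_le hκ ((Ideal.span_singleton_le_iff_mem _).mpr h)))
      ((comp S J M).low_mono (le_max_left _ _) κ)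
  · exact LE.le.trans (hd₂ κ (sup_le hκ ((Ideal.span_singleton_le_iff_mem _).mpr h)))
      ((comp S J M).low_mono (le_max_right _ _) κ)

theorem bdd_of_away {I : Ideal S} {f₀ : S} {d₁ : ℕ}
    (hflat : FlatQ S J M (Localization.Away (Ideal.Quotient.mk I f₀)))
    (hd₁ : LinearMap.ker ((ιS S J M).baseChange (Localization.Away (Ideal.Quotient.mk I f₀))) ≤
      (comp S J M).low (reesAlgebra J) d₁ (Localization.Away (Ideal.Quotient.mk I f₀)))
    (h : Bdd S J M (I ⊔ Ideal.span {f₀})) : Bdd S J M I := by
  obtain ⟨d₂, hd₂⟩ := h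
  refine ⟨max d₁ d₂, fun κ _ _ hκ => ?_⟩
  by_cases h0 : algebraMap S κ f₀ = 0
  · exact LE.le.trans (hd₂ κ (sup_le hκ ((Ideal.span_singleton_le_iff_mem _).mpr h0)))
      ((comp S J M).low_mono (le_max_right _ _) κ)
  letI : Algebra (S ⧸ I) κ := (Ideal.Quotient.lift I (algebraMap S κ) hκ).toAlgebra
  haveI : IsScalarTower S (S ⧸ I) κ := .of_algebraMap_eq fun _ => rfl
  letI : Algebra (Localization.Away (Ideal.Quotient.mk I f₀)) κ :=
    (IsLocalization.Away.lift (Ideal.Quotient.mk I f₀)
      (g := algebraMap (S ⧸ I) κ) (isUnit_iff_ne_zero.mpr h0)).toAlgebra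
  haveI : IsScalarTower (S ⧸ I) (Localization.Away (Ideal.Quotient.mk I f₀)) κ :=
    .of_algebraMap_eq fun r => (IsLocalization.Away.lift_eq _ _ r).symm
  haveI : IsScalarTower S (Localization.Away (Ideal.Quotient.mk I f₀)) κ := .of_algebraMap_eq fun r => by
    rw [IsScalarTower.algebraMap_apply S (S ⧸ I) (Localization.Away (Ideal.Quotient.mk I f₀)),
      ← IsScalarTower.algebraMap_apply (S ⧸ I) (Localization.Away (Ideal.Quotient.mk I f₀)) κ,
      ← IsScalarTower.algebraMap_apply]
  exact LE.le.trans (ker_le_low_of_flat J M (Localization.Away (Ideal.Quotient.mk I f₀)) κ hflat hd₁)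
    ((comp S J M).low_mono (le_max_left _ _) κ)

theorem bdd (I : Ideal S) : Bdd S J M I := by
  induction I using (wellFounded_gt (α := Ideal S)).induction with
  | h I ih =>
    by_cases hI : I.IsPrime
    · obtain ⟨f, hf, hflat⟩ := exists_away_flatQ (S := S) J M (S ⧸ I)
      obtain ⟨f₀, rfl⟩ := Ideal.Quotient.mk_surjective f
      have hf₀ : f₀ ∉ I := fun h => hf (Ideal.Quotient.eq_zero_iff_mem.mpr h)
      obtain ⟨d₁, hd₁⟩ := exists_degree (S := S) J M (Localization.Away (Ideal.Quotient.mk I f₀))
      exact bdd_of_away J M hflat hd₁ (ih _ (lt_of_le_of_ne le_sup_left fun h => hf₀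
        (h ▸ (le_sup_right : _ ≤ I ⊔ Ideal.span {f₀}) (Ideal.mem_span_singleton_self f₀))))
    rcases Ideal.not_isPrime_iff.mp hI with htop | ⟨a, ha, b, hb, hab⟩
    · refine ⟨0, fun κ _ _ h => ?_⟩
      have h1 := h ((Ideal.eq_top_iff_one I).mp htop)
      rw [RingHom.mem_ker, map_one] at h1
      exact absurd h1 one_ne_zero
    exact bdd_of_mul J M hab
      (ih _ (lt_of_le_of_ne le_sup_left fun h => ha
        (h ▸ (le_sup_right : _ ≤ I ⊔ Ideal.span {a}) (Ideal.mem_span_singleton_self a))))
      (ih _ (lt_of_le_of_ne le_sup_left fun h => hb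
        (h ▸ (le_sup_right : _ ≤ I ⊔ Ideal.span {b}) (Ideal.mem_span_singleton_self b))))

/-- The relations of the associated graded modules of all the fibres have bounded degree. -/
theorem exists_bound : ∃ d, ∀ (κ : Type u) [Field κ] [Algebra S κ],
    LinearMap.ker ((ιS S J M).baseChange κ) ≤ (comp S J M).low (reesAlgebra J) d κ := by
  obtain ⟨d, hd⟩ := bdd (S := S) J M ⊥
  exact ⟨d, fun κ _ _ => hd κ bot_le⟩

variable (A : Type u) [CommRing A] [Algebra S A]

/-- Finitely many flat truncations are flat over a finitely generated subalgebra. -/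
theorem exists_flat_stage_le (hA : FlatQ S J M A) (n : ℕ) (T₀ : (subSys S A).J) :
    ∃ T : (subSys S A).J, T₀.1 ≤ T.1 ∧ ∀ k < n, Module.Flat T.1 (T.1 ⊗[S] Q J M k) := by
  haveI := Algebra.FiniteType.isNoetherianRing S B
  haveI : Algebra.FinitePresentation S B := Algebra.FinitePresentation.of_finiteType.mp inferInstance
  induction n with
  | zero => exact ⟨T₀, le_rfl, by simp⟩
  | succ n ih =>
    obtain ⟨T, hT₀, hT⟩ := ih
    haveI : Module.FinitePresentation B (Q J M n) := Module.finitePresentation_of_finite B _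
    obtain ⟨T', hTT', hn⟩ := FlatStage.exists_flat_stage (B := B) (M := Q J M n) (subSys S A) T
      (subSys_dir S A) (hA n)
    refine ⟨T', hT₀.trans hTT'.down.down, fun k hk => ?_⟩
    rcases Nat.lt_succ_iff_lt_or_eq.mp hk with hk | rfl
    · letI : Algebra T.1 T'.1 := (Subalgebra.inclusion hTT'.down.down).toRingHom.toAlgebra
      haveI : IsScalarTower S T.1 T'.1 := .of_algebraMap_eq fun _ => rfl
      haveI := hT k hk
      exact flat_base_change T.1 T'.1
    · exact hn

end

end Groth.Agent.GrFlatLib
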