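import Groth.Agent.GrFlatLib.Apply

/-!
# Flatness along `V(J)` from flatness of the truncations
-/

set_option autoImplicit false
set_option linter.style.haveILetI false
set_option linter.unusedSectionVars false
set_option backward.isDefEq.respectTransparency false

universe u

open TensorProduct

noncomputable section

namespace Groth.Agent.GrFlatLib

attribute [local instance] Algebra.TensorProduct.rightAlgebra

theorem mem_smul_top_of_rTensor {R B X : Type u} [CommRing R] [CommRing B] [Algebra R B] [AddCommGroup X]
    [Module B X] [Module R X] [IsScalarTower R B X] (I : Ideal B) (a : Ideal R)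
    (w : ↥(I • (⊤ : Submodule B X)) ⊗[R] a) :
    ((I • (⊤ : Submodule B X)).subtype.restrictScalars R).rTensor a w ∈ I • (⊤ : Submodule B (X ⊗[R] a)) := by
  induction w with
  | zero => rw [map_zero]; exact zero_mem _
  | tmul m t =>
    obtain ⟨m, hm⟩ := m
    show m ⊗ₜ[R] t ∈ _
    induction hm using Submodule.smul_induction_on' with
    | smul c hc x _ =>
      rw [← TensorProduct.smul_tmul']
      exact Submodule.smul_mem_smul hc trivial
    | add x _ y _ hx hy => rw [TensorProduct.add_tmul]; exact add_mem hx hy
  | add x y hx hy => rw [map_add]; exact add_mem hx hy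

theorem exists_rTensor_mkQ {R B X : Type u} [CommRing R] [CommRing B] [Algebra R B] [AddCommGroup X]
    [Module B X] [Module R X] [IsScalarTower R B X] (T : Submodule B X) (a : Type u) [AddCommGroup a]
    [Module R a] (z : X ⊗[R] a) (hz : (T.mkQ.restrictScalars R).rTensor a z = 0) :
    ∃ w, (T.subtype.restrictScalars R).rTensor a w = z :=
  (rTensor_exact a (f := T.subtype.restrictScalars R) (g := T.mkQ.restrictScalars R)
    (LinearMap.exact_subtype_mkQ T) T.mkQ_surjective z).mp hz

theorem ker_rTensor_mkQ {R B X : Type u} [CommRing R] [CommRing B] [Algebra R B] [AddCommGroup X]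
    [Module B X] [Module R X] [IsScalarTower R B X] (I : Ideal B) (a : Ideal R) (z : X ⊗[R] a)
    (hz : ((I • (⊤ : Submodule B X)).mkQ.restrictScalars R).rTensor a z = 0) :
    z ∈ I • (⊤ : Submodule B (X ⊗[R] a)) := by
  obtain ⟨w, rfl⟩ := exists_rTensor_mkQ _ a z hz
  exact mem_smul_top_of_rTensor I a w

/-- A module all of whose truncations are flat is flat along the closed set. -/
theorem flat_localized_of_truncations {R B X : Type u} [CommRing R] [IsNoetherianRing R] [CommRing B]
    [IsNoetherianRing B] [Algebra R B] [AddCommGroup X] [Module B X] [Module R X] [IsScalarTower R B X]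
    [Module.Finite B X] (I : Ideal B) (hI : ∀ k, Module.Flat R (X ⧸ (I ^ k • (⊤ : Submodule B X))))
    (q : Ideal B) [q.IsPrime] (hq : I ≤ q) : Module.Flat R (LocalizedModule q.primeCompl X) := by
  let g := LocalizedModule.mkLinearMap q.primeCompl X
  rw [Module.Flat.iff_lTensor_injective']
  intro a
  haveI : Module.Finite R a := Module.Finite.iff_fg.mpr (IsNoetherian.noetherian a)
  haveI : Module.Finite B (X ⊗[R] a) :=
    Module.Finite.equiv (AlgebraTensorModule.cancelBaseChange R B B X a)
  let gI := AlgebraTensorModule.rTensor R a g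
  rw [injective_iff_map_eq_zero]
  intro w hw
  obtain ⟨⟨z, s⟩, hzs⟩ := IsLocalizedModule.surj q.primeCompl gI w
  let j : X ⊗[R] a →ₗ[B] X ⊗[R] R := AlgebraTensorModule.lTensor B X a.subtype
  have hnat : ∀ y, a.subtype.lTensor (LocalizedModule q.primeCompl X) (gI y) =
      AlgebraTensorModule.rTensor R R g (j y) := fun y => by
    induction y with
    | zero => simp
    | tmul x t => rfl
    | add x y hx hy => rw [map_add, map_add, map_add, map_add, hx, hy]
  have h0 : AlgebraTensorModule.rTensor R R g (j z) = 0 := by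
    rw [← hnat z, ← hzs]
    show a.subtype.lTensor _ ((s : B) • w) = 0
    rw [← AlgebraTensorModule.coe_lTensor (A := B), map_smul, AlgebraTensorModule.coe_lTensor, hw, smul_zero]
  obtain ⟨t, ht⟩ := (IsLocalizedModule.eq_zero_iff q.primeCompl (AlgebraTensorModule.rTensor R R g)).mp h0
  have hmem : ∀ k, (t : B) • z ∈ I ^ k • (⊤ : Submodule B (X ⊗[R] a)) := fun k => by
    apply ker_rTensor_mkQ
    haveI := hI k
    apply Module.Flat.lTensor_preserves_injective_linearMap (M := X ⧸ (I ^ k • (⊤ : Submodule B X)))
      a.subtype Subtype.val_injective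
    rw [map_zero]
    have : ∀ y : X ⊗[R] a, a.subtype.lTensor _ (((I ^ k • (⊤ : Submodule B X)).mkQ.restrictScalars R).rTensor a y)
        = AlgebraTensorModule.rTensor R R (I ^ k • (⊤ : Submodule B X)).mkQ (j y) := fun y => by
      induction y with
      | zero => simp
      | tmul x t => rfl
      | add x y hx hy => simp only [map_add, hx, hy]
    rw [this, map_smul]
    show AlgebraTensorModule.rTensor R R _ (t • j z) = 0
    rw [ht, map_zero]
  obtain ⟨r, hr⟩ := (I.mem_iInf_smul_pow_eq_bot_iff _).mp (Submodule.mem_iInf _ |>.mpr hmem)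
  have hr1 : (1 - (r : B)) * t ∈ q.primeCompl := by
    refine q.primeCompl.mul_mem ?_ t.2
    intro h
    exact q.ne_top_iff_one.mp ‹q.IsPrime›.ne_top (by simpa using add_mem h (hq r.2))
  have hz0 : gI z = 0 := (IsLocalizedModule.eq_zero_iff q.primeCompl gI).mpr ⟨⟨_, hr1⟩, by
    show ((1 - (r : B)) * t) • z = 0
    rw [mul_smul, sub_smul, one_smul]
    exact sub_eq_zero.mpr hr.symm⟩
  rw [hz0] at hzs
  exact IsLocalizedModule.smul_injective gI s (hzs.trans (smul_zero _).symm)

theorem flat_truncations_tensor {S B : Type u} [CommRing S] [CommRing B] [Algebra S B] (J : Ideal B)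
    (M : Type u) [AddCommGroup M] [Module B M] [Module S M] [IsScalarTower S B M] (R : Type u) [CommRing R]
    [Algebra S R] (h : FlatQ S J M R) (k : ℕ) :
    Module.Flat R (((R ⊗[S] B) ⊗[B] M) ⧸
      ((J.map (algebraMap B (R ⊗[S] B))) ^ k • (⊤ : Submodule (R ⊗[S] B) ((R ⊗[S] B) ⊗[B] M)))) := by
  rw [← Ideal.map_pow]
  haveI := h k
  exact Module.Flat.of_linearEquiv
    (((quotSMulEquiv (R ⊗[S] B) (J ^ k)).symm.restrictScalars R).trans (eC (C := B) R (Q J M k)))

/-- Flatness along the closed set over any algebra through which a flat model factors. -/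
theorem flat_localized_of_model {S B : Type u} [CommRing S] [IsNoetherianRing S] [CommRing B] [Algebra S B]
    [Algebra.FiniteType S B] (J : Ideal B) (M : Type u) [AddCommGroup M] [Module B M] [Module S M]
    [IsScalarTower S B M] [Module.Finite B M] (R A : Type u) [CommRing R] [Algebra S R]
    [Algebra.FiniteType S R] [CommRing A] [Algebra S A] [Algebra R A] [IsScalarTower S R A]
    (h : FlatQ S J M R) (p : PrimeSpectrum (A ⊗[S] B)) (hp : ∀ x ∈ J, (1 : A) ⊗ₜ[S] x ∈ p.asIdeal) :
    Module.Flat A (LocalizedModule p.asIdeal.primeCompl ((A ⊗[S] B) ⊗[B] M)) := by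
  haveI := Algebra.FiniteType.isNoetherianRing S B
  haveI := Algebra.FiniteType.isNoetherianRing S R
  haveI : IsNoetherianRing (R ⊗[S] B) := Algebra.FiniteType.isNoetherianRing R _
  haveI : Algebra.FinitePresentation S B := Algebra.FinitePresentation.of_finiteType.mp inferInstance
  haveI : Module.FinitePresentation B M := Module.finitePresentation_of_finite B M
  refine FlatStage.comap_locus_le (IsScalarTower.toAlgHom S R A) (?_ : p ∈ _)
  refine flat_localized_of_truncations (J.map (algebraMap B (R ⊗[S] B)))
    (flat_truncations_tensor J M R h) _ (Ideal.map_le_iff_le_comap.mpr fun x hx => ?_)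
  show Algebra.TensorProduct.map (IsScalarTower.toAlgHom S R A) (AlgHom.id S B) (algebraMap B (R ⊗[S] B) x) ∈ p.asIdeal
  rw [RingHom.algebraMap_toAlgebra]
  simpa using hp x hx

/-- Flatness of localisations read along a surjection. -/
theorem flat_localized_semilinear {A P B₀ M₁ M₀ : Type u} [CommRing A] [CommRing P] [CommRing B₀]
    [Algebra A P] [Algebra A B₀] [AddCommGroup M₁] [Module P M₁] [Module A M₁] [IsScalarTower A P M₁]
    [AddCommGroup M₀] [Module B₀ M₀] [Module A M₀] [IsScalarTower A B₀ M₀]
    (π : P →ₐ[A] B₀) (hπ : Function.Surjective π) (e : M₁ →+ M₀) (he : Function.Bijective e)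
    (hlin : ∀ z x, e (z • x) = π z • e x) (q : Ideal B₀) [q.IsPrime]
    (h : Module.Flat A (LocalizedModule (q.comap π.toRingHom).primeCompl M₁)) :
    Module.Flat A (LocalizedModule q.primeCompl M₀) := by
  letI : Algebra P B₀ := π.toRingHom.toAlgebra
  haveI : IsScalarTower A P B₀ := .of_algebraMap_eq fun r => (π.commutes r).symm
  letI : Module P M₀ := Module.compHom M₀ π.toRingHom
  haveI : IsScalarTower P B₀ M₀ := .of_algebraMap_smul fun _ _ => rfl
  haveI : IsScalarTower A P M₀ := .of_algebraMap_smul fun r m => by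
    show π (algebraMap A P r) • m = r • m
    rw [π.commutes, algebraMap_smul]
  let L : M₁ ≃ₗ[P] M₀ := (AddEquiv.ofBijective e he).toLinearEquiv fun z x => hlin z x
  have hP : Algebra.algebraMapSubmonoid B₀ (q.comap π.toRingHom).primeCompl = q.primeCompl := by
    ext x
    constructor
    · rintro ⟨y, hy, rfl⟩; exact hy
    · intro hx
      obtain ⟨y, rfl⟩ := hπ x
      exact ⟨y, hx, rfl⟩
  haveI : IsLocalizedModule (Algebra.algebraMapSubmonoid B₀ (q.comap π.toRingHom).primeCompl)
      (LocalizedModule.mkLinearMap q.primeCompl M₀) := by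
    rw [hP]; infer_instance
  let g : M₀ →ₗ[P] LocalizedModule q.primeCompl M₀ :=
    (LocalizedModule.mkLinearMap q.primeCompl M₀).restrictScalars _
  haveI : IsLocalizedModule (q.comap π.toRingHom).primeCompl g := IsLocalizedModule.restrictScalars _ _
  haveI : IsLocalizedModule (q.comap π.toRingHom).primeCompl (g ∘ₗ L.toLinearMap) :=
    IsLocalizedModule.of_linearEquiv_right _ _ _
  haveI := h
  exact Module.Flat.of_linearEquiv
    ((IsLocalizedModule.iso (q.comap π.toRingHom).primeCompl (g ∘ₗ L.toLinearMap)).symm.restrictScalars A)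

end Groth.Agent.GrFlatLib
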