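import Groth.Agent.CAlgBasics.FlatAux
import Mathlib.RingTheory.IsTensorProduct
import Mathlib.RingTheory.Flat.Equalizer
import Mathlib.RingTheory.LocalRing.Module

/-!
# Kernels of base changes of linear maps

For an `S`-algebra `C`, a `C`-linear map `f : N → P` and an `S`-algebra `R` we study the kernel
`ker R f` of `R ⊗[S] f` and its stability under `C`.
-/

set_option autoImplicit false
set_option linter.style.haveILetI false
set_option linter.unusedSectionVars false
set_option backward.isDefEq.respectTransparency false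

universe u

open TensorProduct

noncomputable section

namespace Groth.Agent.GrFlatLib

attribute [local instance] Algebra.TensorProduct.rightAlgebra

section Components

variable {S V : Type u} [CommRing S] [AddCommGroup V] [Module S V]
  {Vk : ℕ → Type u} [∀ k, AddCommGroup (Vk k)] [∀ k, Module S (Vk k)]

/-- Every element is the sum of its components. -/
def Decomp (i : ∀ k, Vk k →ₗ[S] V) (p : ∀ k, V →ₗ[S] Vk k) : Prop :=
  ∀ v, ∃ t : Finset ℕ, ∀ t', t ⊆ t' → ∑ k ∈ t', i k (p k v) = v

theorem Decomp.eq_zero {i : ∀ k, Vk k →ₗ[S] V} {p : ∀ k, V →ₗ[S] Vk k} (h : Decomp i p) {v : V}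
    (hv : ∀ k, i k (p k v) = 0) : v = 0 := by
  obtain ⟨t, ht⟩ := h v
  rw [← ht t subset_rfl, Finset.sum_eq_zero fun k _ => hv k]

theorem Decomp.mem {i : ∀ k, Vk k →ₗ[S] V} {p : ∀ k, V →ₗ[S] Vk k} (h : Decomp i p) {v : V}
    {T : Submodule S V} (hv : ∀ k, i k (p k v) ∈ T) : v ∈ T := by
  obtain ⟨t, ht⟩ := h v
  rw [← ht t subset_rfl]
  exact sum_mem fun k _ => hv k

theorem Decomp.lTensor {i : ∀ k, Vk k →ₗ[S] V} {p : ∀ k, V →ₗ[S] Vk k} (h : Decomp i p)
    (R : Type u) [AddCommGroup R] [Module S R] :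
    Decomp (fun k => (i k).lTensor R) (fun k => (p k).lTensor R) := by
  classical
  intro v
  induction v with
  | zero => exact ⟨∅, fun t _ => by simp⟩
  | tmul r x =>
    obtain ⟨t, ht⟩ := h x
    exact ⟨t, fun t' ht' => by simp [← TensorProduct.tmul_sum, ht t' ht']⟩
  | add x y hx hy =>
    obtain ⟨t₁, h₁⟩ := hx
    obtain ⟨t₂, h₂⟩ := hy
    refine ⟨t₁ ∪ t₂, fun t' ht' => ?_⟩
    simp only [map_add, Finset.sum_add_distrib]
    rw [h₁ t' (Finset.union_subset_left ht'), h₂ t' (Finset.union_subset_right ht')]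

/-- A module with flat components is flat. -/
theorem Decomp.flat {i : ∀ k, Vk k →ₗ[S] V} {p : ∀ k, V →ₗ[S] Vk k} (h : Decomp i p)
    (hflat : ∀ k, Module.Flat S (Vk k)) : Module.Flat S V := by
  rw [Module.Flat.iff_rTensor_injective']
  intro I
  rw [injective_iff_map_eq_zero]
  intro z hz
  refine (h.lTensor I).eq_zero fun k => ?_
  have h1 : (p k).lTensor S (I.subtype.rTensor V z) = I.subtype.rTensor (Vk k) ((p k).lTensor I z) := by
    rw [← LinearMap.comp_apply, LinearMap.lTensor_comp_rTensor, ← LinearMap.rTensor_comp_lTensor,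
      LinearMap.comp_apply]
  rw [hz, map_zero] at h1
  have := Module.Flat.rTensor_preserves_injective_linearMap (M := Vk k) I.subtype Subtype.val_injective
  rw [(map_eq_zero_iff _ this).mp h1.symm, map_zero]

end Components

section BaseChange

variable {S : Type u} [CommRing S]

/-- Change of rings on the left factor. -/
def bc (R R' : Type u) [CommRing R] [Algebra S R] [CommRing R'] [Algebra S R'] [Algebra R R']
    [IsScalarTower S R R'] (N : Type u) [AddCommGroup N] [Module S N] : R ⊗[S] N →ₗ[R] R' ⊗[S] N :=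
  AlgebraTensorModule.map (Algebra.linearMap R R') (LinearMap.id : N →ₗ[S] N)

variable {R R' : Type u} [CommRing R] [Algebra S R] [CommRing R'] [Algebra S R'] [Algebra R R']
  [IsScalarTower S R R'] {N P : Type u} [AddCommGroup N] [Module S N] [AddCommGroup P] [Module S P]

@[simp] theorem bc_tmul (r : R) (n : N) :
    bc R R' N (r ⊗ₜ[S] n) = algebraMap R R' r ⊗ₜ[S] n := rfl

theorem bc_natural (g : N →ₗ[S] P) (x : R ⊗[S] N) :
    bc R R' P (g.baseChange R x) = g.baseChange R' (bc R R' N x) := by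
  induction x with
  | zero => simp
  | tmul r n => simp
  | add x y hx hy => simp only [map_add, hx, hy]

theorem bc_bc {R'' : Type u} [CommRing R''] [Algebra S R''] [Algebra R R''] [Algebra R' R'']
    [IsScalarTower S R R''] [IsScalarTower S R' R''] [IsScalarTower R R' R''] (x : R ⊗[S] N) :
    bc R' R'' N (bc R R' N x) = bc R R'' N x := by
  induction x with
  | zero => simp
  | tmul r n => rw [bc_tmul, bc_tmul, bc_tmul, IsScalarTower.algebraMap_apply R R' R'']
  | add x y hx hy => simp only [map_add, hx, hy]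

theorem cancel_tmul (r : R') (x : R ⊗[S] N) :
    AlgebraTensorModule.cancelBaseChange S R R' R' N (r ⊗ₜ x) = r • bc R R' N x := by
  induction x with
  | zero => simp
  | tmul a n =>
    rw [AlgebraTensorModule.cancelBaseChange_tmul, bc_tmul, TensorProduct.smul_tmul', smul_eq_mul,
      Algebra.smul_def, mul_comm]
  | add x y hx hy => simp only [TensorProduct.tmul_add, map_add, hx, hy, smul_add]

theorem cancel_natural (g : N →ₗ[S] P) (y : R' ⊗[R] (R ⊗[S] N)) :
    AlgebraTensorModule.cancelBaseChange S R R' R' P ((g.baseChange R).baseChange R' y) =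
      g.baseChange R' (AlgebraTensorModule.cancelBaseChange S R R' R' N y) := by
  induction y with
  | zero => simp
  | tmul r x => rw [LinearMap.baseChange_tmul, cancel_tmul, cancel_tmul, map_smul, bc_natural]
  | add x y hx hy => simp only [map_add, hx, hy]

theorem exact_ker_rangeRestrict {M Q : Type u} [AddCommGroup M] [Module R M] [AddCommGroup Q]
    [Module R Q] (f : M →ₗ[R] Q) : Function.Exact (LinearMap.ker f).subtype f.rangeRestrict := fun y =>
  ⟨fun h => ⟨⟨y, congrArg Subtype.val h⟩, rfl⟩, by rintro ⟨z, rfl⟩; exact Subtype.ext z.2⟩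

theorem ker_lTensor_injective {M Q : Type u} [AddCommGroup M] [Module R M] [AddCommGroup Q]
    [Module R Q] (f : M →ₗ[R] Q) [Module.Flat R (LinearMap.range f)]
    (T : Type u) [AddCommGroup T] [Module R T] :
    Function.Injective ((LinearMap.ker f).subtype.lTensor T) :=
  LinearMap.lTensor_injective_of_exact_of_flat f.rangeRestrict f.surjective_rangeRestrict
    (LinearMap.ker f).subtype Subtype.val_injective (exact_ker_rangeRestrict f) T

/-- The kernel of a base change, read in `R' ⊗[R] (R ⊗[S] N)`. -/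
theorem lTensor_rangeRestrict_eq_zero {M Q : Type u} [AddCommGroup M] [Module R M] [AddCommGroup Q]
    [Module R Q] (f : M →ₗ[R] Q) (hinj : Function.Injective ((LinearMap.range f).subtype.lTensor R'))
    (y : R' ⊗[R] M) (hy : f.baseChange R' y = 0) : f.rangeRestrict.lTensor R' y = 0 := by
  apply hinj
  rw [map_zero, ← LinearMap.comp_apply, ← LinearMap.lTensor_comp, LinearMap.subtype_comp_codRestrict]
  rw [← LinearMap.baseChange_eq_ltensor]
  exact hy

theorem exists_lTensor_ker {M Q : Type u} [AddCommGroup M] [Module R M] [AddCommGroup Q]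
    [Module R Q] (f : M →ₗ[R] Q) (hinj : Function.Injective ((LinearMap.range f).subtype.lTensor R'))
    (y : R' ⊗[R] M) (hy : f.baseChange R' y = 0) :
    ∃ z : R' ⊗[R] LinearMap.ker f, (LinearMap.ker f).subtype.lTensor R' z = y := by
  exact (lTensor_exact R' (exact_ker_rangeRestrict f) f.surjective_rangeRestrict _).mp
    (lTensor_rangeRestrict_eq_zero f hinj y hy)

/-- The kernel of a base change is spanned by the kernel, provided the image stays embedded. -/
theorem ker_baseChange_le (g : N →ₗ[S] P)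
    (hinj : Function.Injective ((LinearMap.range (g.baseChange R)).subtype.lTensor R')) :
    LinearMap.ker (g.baseChange R') ≤
      Submodule.span R' (bc R R' N '' (LinearMap.ker (g.baseChange R) : Set (R ⊗[S] N))) := by
  intro x hx
  obtain ⟨x, rfl⟩ := (AlgebraTensorModule.cancelBaseChange S R R' R' N).surjective x
  rw [LinearMap.mem_ker, ← cancel_natural,
    map_eq_zero_iff _ (AlgebraTensorModule.cancelBaseChange S R R' R' P).injective] at hx
  obtain ⟨z, rfl⟩ := exists_lTensor_ker (g.baseChange R) hinj x hx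
  clear hx
  induction z with
  | zero => rw [map_zero, map_zero]; exact zero_mem _
  | tmul r y =>
    rw [LinearMap.lTensor_tmul, cancel_tmul]
    exact Submodule.smul_mem _ _ (Submodule.subset_span ⟨y, y.2, rfl⟩)
  | add y z hy hz => rw [map_add, map_add]; exact add_mem hy hz

theorem bc_ker_le (g : N →ₗ[S] P) {x : R ⊗[S] N} (hx : x ∈ LinearMap.ker (g.baseChange R)) :
    bc R R' N x ∈ LinearMap.ker (g.baseChange R') := by
  rw [LinearMap.mem_ker, ← bc_natural, LinearMap.mem_ker.mp hx, map_zero]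

/-- The image stays embedded when the cokernel is flat. -/
theorem range_lTensor_injective {M : Type u} [AddCommGroup M] [Module R M] (T : Submodule R M)
    [Module.Flat R (M ⧸ T)] (Q : Type u) [AddCommGroup Q] [Module R Q] :
    Function.Injective (T.subtype.lTensor Q) :=
  LinearMap.lTensor_injective_of_exact_of_flat T.mkQ T.mkQ_surjective T.subtype Subtype.val_injective
    (LinearMap.exact_subtype_mkQ T) Q

end BaseChange

section Actions

variable {S C : Type u} [CommRing S] [CommRing C] [Algebra S C]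
  {N P : Type u} [AddCommGroup N] [Module C N] [Module S N] [IsScalarTower S C N]
  [AddCommGroup P] [Module C P] [Module S P] [IsScalarTower S C P]
  (R : Type u) [CommRing R] [Algebra S R]

/-- The action of `c` on `R ⊗[S] N`. -/
def cs (c : C) : R ⊗[S] N →ₗ[R] R ⊗[S] N :=
  ((LinearMap.lsmul C N c).restrictScalars S).baseChange R

@[simp] theorem cs_tmul (c : C) (r : R) (n : N) : cs R c (r ⊗ₜ[S] n) = r ⊗ₜ (c • n) := rfl

theorem cs_natural (f : N →ₗ[C] P) (c : C) (x : R ⊗[S] N) :
    (f.restrictScalars S).baseChange R (cs R c x) = cs R c ((f.restrictScalars S).baseChange R x) := by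
  induction x with
  | zero => simp
  | tmul r n => simp
  | add x y hx hy => simp only [map_add, hx, hy]

theorem bc_cs {R' : Type u} [CommRing R'] [Algebra S R'] [Algebra R R'] [IsScalarTower S R R']
    (c : C) (x : R ⊗[S] N) : bc R R' N (cs R c x) = cs R' c (bc R R' N x) := by
  induction x with
  | zero => simp
  | tmul r n => simp
  | add x y hx hy => simp only [map_add, hx, hy]

/-- `R ⊗[S] C ⊗[C] N` is `R ⊗[S] N`. -/
def eC (N : Type u) [AddCommGroup N] [Module C N] [Module S N] [IsScalarTower S C N] :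
    (R ⊗[S] C) ⊗[C] N ≃ₗ[R] R ⊗[S] N :=
  Algebra.IsPushout.cancelBaseChange S R C (R ⊗[S] C) N

theorem eC_tmul (r : R) (c : C) (n : N) : eC (C := C) R N ((r ⊗ₜ[S] c) ⊗ₜ[C] n) = r ⊗ₜ (c • n) := by
  have h : (r ⊗ₜ[S] c : R ⊗[S] C) ⊗ₜ[C] n = r • ((1 : R ⊗[S] C) ⊗ₜ[C] (c • n)) := by
    rw [TensorProduct.tmul_smul, TensorProduct.smul_tmul', TensorProduct.smul_tmul']
    congr 1
    rw [Algebra.smul_def (A := R ⊗[S] C) c, RingHom.algebraMap_toAlgebra, mul_one]
    simp [TensorProduct.smul_tmul']
  rw [h, map_smul, eC, Algebra.IsPushout.cancelBaseChange_tmul, TensorProduct.smul_tmul', smul_eq_mul, mul_one]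

theorem eC_smul_tmul (r : R) (c : C) (x : (R ⊗[S] C) ⊗[C] N) :
    eC (C := C) R N ((r ⊗ₜ[S] c : R ⊗[S] C) • x) = r • cs R c (eC (C := C) R N x) := by
  induction x with
  | zero => simp
  | tmul z n =>
    rw [TensorProduct.smul_tmul', smul_eq_mul]
    induction z with
    | zero => simp
    | tmul r' c' =>
      rw [Algebra.TensorProduct.tmul_mul_tmul, eC_tmul, eC_tmul, cs_tmul, TensorProduct.smul_tmul',
        smul_eq_mul, mul_smul]
    | add x y hx hy => simp only [mul_add, TensorProduct.add_tmul, map_add, smul_add, hx, hy]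
  | add x y hx hy => simp only [smul_add, map_add, hx, hy]

theorem eC_natural (f : N →ₗ[C] P) (x : (R ⊗[S] C) ⊗[C] N) :
    eC (C := C) R P (f.baseChange (R ⊗[S] C) x) = (f.restrictScalars S).baseChange R (eC (C := C) R N x) := by
  induction x with
  | zero => simp
  | tmul z n =>
    induction z with
    | zero => simp
    | tmul r c =>
      rw [LinearMap.baseChange_tmul, eC_tmul, eC_tmul, LinearMap.baseChange_tmul, ← map_smul]
      rfl
    | add x y hx hy => simp only [TensorProduct.add_tmul, map_add, hx, hy]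
  | add x y hx hy => simp only [map_add, hx, hy]

/-- The span of a set under `R` and `C`. -/
def cspan (G : Set (R ⊗[S] N)) : Submodule R (R ⊗[S] N) :=
  Submodule.span R (Set.range fun x : C × G => cs R x.1 (x.2 : R ⊗[S] N))

theorem cs_mem_cspan (G : Set (R ⊗[S] N)) (c : C) {g : R ⊗[S] N} (hg : g ∈ G) :
    cs R c g ∈ cspan (C := C) R G := Submodule.subset_span ⟨(c, ⟨g, hg⟩), rfl⟩

theorem cspan_le {G : Set (R ⊗[S] N)} {T : Submodule R (R ⊗[S] N)}
    (h : ∀ (c : C), ∀ g ∈ G, cs R c g ∈ T) : cspan (C := C) R G ≤ T :=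
  Submodule.span_le.mpr (by rintro _ ⟨⟨c, g, hg⟩, rfl⟩; exact h c g hg)

theorem eC_span_mem (G : Set ((R ⊗[S] C) ⊗[C] N)) {x : (R ⊗[S] C) ⊗[C] N}
    (hx : x ∈ Submodule.span (R ⊗[S] C) G) : eC (C := C) R N x ∈ cspan (C := C) R (eC (C := C) R N '' G) := by
  suffices h : ∀ (z : R ⊗[S] C), ∀ g ∈ G, eC (C := C) R N (z • g) ∈ cspan (C := C) R (eC (C := C) R N '' G) by
    obtain ⟨l, rfl⟩ := (Finsupp.mem_span_iff_linearCombination _ _ _).mp hx
    rw [Finsupp.linearCombination_apply, Finsupp.sum, map_sum]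
    exact sum_mem fun g _ => h _ _ g.2
  intro z g hg
  induction z with
  | zero => rw [zero_smul, map_zero]; exact zero_mem _
  | tmul r c =>
    rw [eC_smul_tmul]
    exact Submodule.smul_mem _ _ (cs_mem_cspan R _ c ⟨g, hg, rfl⟩)
  | add x y hx hy => rw [add_smul, map_add]; exact add_mem hx hy

/-- Over a Noetherian base the kernel is finitely generated under `R` and `C`. -/
theorem exists_finite_ker [IsNoetherianRing (R ⊗[S] C)] [Module.Finite C N] (f : N →ₗ[C] P) :
    ∃ G : Finset (R ⊗[S] N), (G : Set (R ⊗[S] N)) ⊆ LinearMap.ker ((f.restrictScalars S).baseChange R) ∧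
      LinearMap.ker ((f.restrictScalars S).baseChange R) ≤ cspan (C := C) R G := by
  classical
  obtain ⟨G, hG⟩ := IsNoetherian.noetherian (LinearMap.ker (f.baseChange (R ⊗[S] C)))
  refine ⟨G.image (eC (C := C) R N), ?_, fun x hx => ?_⟩
  · rw [Finset.coe_image]
    rintro _ ⟨g, hg, rfl⟩
    rw [SetLike.mem_coe, LinearMap.mem_ker, ← eC_natural,
      LinearMap.mem_ker.mp (hG ▸ Submodule.subset_span hg), map_zero]
  · obtain ⟨x, rfl⟩ := (eC (C := C) R N).surjective x
    rw [LinearMap.mem_ker, ← eC_natural, map_eq_zero_iff _ (eC (C := C) R P).injective] at hx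
    rw [Finset.coe_image]
    exact eC_span_mem R _ (hG.ge hx)

/-- The image, seen over `R ⊗[S] C`. -/
def rangeEquiv (f : N →ₗ[C] P) :
    LinearMap.range (f.baseChange (R ⊗[S] C)) ≃ₗ[R] LinearMap.range ((f.restrictScalars S).baseChange R) :=
  LinearEquiv.ofBijective
    (LinearMap.codRestrict _ ((eC (C := C) R P).toLinearMap ∘ₗ
      (LinearMap.range (f.baseChange (R ⊗[S] C))).subtype.restrictScalars R) (by
        rintro ⟨_, x, rfl⟩
        exact ⟨eC (C := C) R N x, (eC_natural R f x).symm⟩))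
    ⟨fun a b h => Subtype.ext ((eC (C := C) R P).injective (congrArg Subtype.val h)), by
      rintro ⟨_, y, rfl⟩
      obtain ⟨x, rfl⟩ := (eC (C := C) R N).surjective y
      exact ⟨⟨_, x, rfl⟩, Subtype.ext (eC_natural R f x)⟩⟩

/-- A finite module all of whose base changes to fields over the base vanish is zero. -/
theorem subsingleton_of_fields {A B Z : Type u} [CommRing A] [CommRing B] [Algebra A B]
    [AddCommGroup Z] [Module B Z] [Module A Z] [IsScalarTower A B Z] [Module.Finite B Z]
    (h : ∀ (κ : Type u) [Field κ] [Algebra A κ] (z : Z), (1 : κ) ⊗ₜ[A] z = 0) : Subsingleton Z := by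
  rw [← Module.support_eq_empty_iff (R := B), Set.eq_empty_iff_forall_notMem]
  intro q hq
  rw [Module.mem_support_iff_nontrivial_residueField_tensorProduct] at hq
  refine not_subsingleton_iff_nontrivial.mpr hq ?_
  let κ := q.asIdeal.ResidueField
  have hz : ∀ z : Z, (1 : κ) ⊗ₜ[B] z = 0 := fun z => by
    have hs := congrArg (TensorProduct.lift (LinearMap.mk₂ A (fun (k : κ) (z : Z) => k ⊗ₜ[B] z)
      (fun _ _ _ => TensorProduct.add_tmul _ _ _)
      (fun a k z => TensorProduct.smul_tmul' a k z |>.symm)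
      (fun _ _ _ => TensorProduct.tmul_add _ _ _)
      (fun a k z => TensorProduct.tmul_smul a k z))) (h κ z)
    rwa [TensorProduct.lift.tmul, LinearMap.mk₂_apply, map_zero] at hs
  refine ⟨fun a b => ?_⟩
  have h0 : ∀ t : κ ⊗[B] Z, t = 0 := fun t => by
    induction t with
    | zero => rfl
    | tmul k z => rw [← mul_one k, ← smul_eq_mul, ← TensorProduct.smul_tmul', hz, smul_zero]
    | add x y hx hy => rw [hx, hy, add_zero]
  rw [h0 a, h0 b]

/-- A stable submodule, seen over `R ⊗[S] C`. -/
def toC (E : Submodule R (R ⊗[S] N)) (hEc : ∀ c : C, ∀ x ∈ E, cs R c x ∈ E) :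
    Submodule (R ⊗[S] C) ((R ⊗[S] C) ⊗[C] N) where
  carrier := {x | eC (C := C) R N x ∈ E}
  add_mem' := fun {a b} ha hb => by show eC (C := C) R N (a + b) ∈ E; rw [map_add]; exact add_mem ha hb
  zero_mem' := by show eC (C := C) R N 0 ∈ E; rw [map_zero]; exact zero_mem _
  smul_mem' := fun z x hx => by
    show eC (C := C) R N (z • x) ∈ E
    induction z with
    | zero => rw [zero_smul, map_zero]; exact zero_mem _
    | tmul r c => rw [eC_smul_tmul]; exact E.smul_mem _ (hEc c _ hx)
    | add a b ha hb => rw [add_smul, map_add]; exact add_mem ha hb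

theorem mem_toC {E : Submodule R (R ⊗[S] N)} {hEc : ∀ c : C, ∀ x ∈ E, cs R c x ∈ E}
    {x : (R ⊗[S] C) ⊗[C] N} : x ∈ toC R E hEc ↔ eC (C := C) R N x ∈ E := Iff.rfl

theorem mem_kerC (f : N →ₗ[C] P) (x : (R ⊗[S] C) ⊗[C] N) : x ∈ LinearMap.ker (f.baseChange (R ⊗[S] C)) ↔
    eC (C := C) R N x ∈ LinearMap.ker ((f.restrictScalars S).baseChange R) := by
  rw [LinearMap.mem_ker, LinearMap.mem_ker, ← eC_natural, map_eq_zero_iff _ (eC (C := C) R P).injective]

theorem finite_kerC (f : N →ₗ[C] P) (G : Finset (R ⊗[S] N))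
    (hG : (G : Set (R ⊗[S] N)) ⊆ LinearMap.ker ((f.restrictScalars S).baseChange R))
    (hgen : LinearMap.ker ((f.restrictScalars S).baseChange R) ≤ cspan (C := C) R G) :
    Module.Finite (R ⊗[S] C) (LinearMap.ker (f.baseChange (R ⊗[S] C))) := by
  classical
  refine Module.Finite.iff_fg.mpr ⟨G.image (eC (C := C) R N).symm,
    le_antisymm (Submodule.span_le.mpr ?_) fun x hx => ?_⟩
  · rw [Finset.coe_image]
    rintro _ ⟨γ, hγ, rfl⟩
    rw [SetLike.mem_coe, mem_kerC, LinearEquiv.apply_symm_apply]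
    exact hG hγ
  · let T := Submodule.span (R ⊗[S] C) (G.image (eC (C := C) R N).symm : Set ((R ⊗[S] C) ⊗[C] N))
    have hle : cspan (C := C) R (G : Set (R ⊗[S] N)) ≤
        (T.restrictScalars R).comap (eC (C := C) R N).symm.toLinearMap := by
      refine cspan_le R fun c γ hγ => ?_
      show (eC (C := C) R N).symm (cs R c γ) ∈ T
      have : (eC (C := C) R N).symm (cs R c γ) =
          ((1 : R) ⊗ₜ[S] c : R ⊗[S] C) • (eC (C := C) R N).symm γ :=
        (eC (C := C) R N).injective
          (by rw [eC_smul_tmul, LinearEquiv.apply_symm_apply, LinearEquiv.apply_symm_apply, one_smul])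
      rw [this]
      exact Submodule.smul_mem _ _ (Submodule.subset_span (Finset.mem_image_of_mem _ hγ))
    have := hle (hgen ((mem_kerC R f x).mp hx))
    rwa [Submodule.mem_comap, LinearEquiv.coe_coe, LinearEquiv.symm_apply_apply] at this

/-- An element of a module lying in a submodule on a fibre dies in the quotient. -/
theorem one_tmul_mk_eq_zero {M Q : Type u} [AddCommGroup M] [Module R M] [AddCommGroup Q] [Module R Q]
    (κ : Type u) [CommRing κ] [Algebra R κ] (q : M →ₗ[R] Q) (T : Set M) (hT : ∀ y ∈ T, q y = 0) (m : M)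
    (hm : (1 : κ) ⊗ₜ[R] m ∈ Submodule.span κ (TensorProduct.mk R κ M 1 '' T)) :
    (1 : κ) ⊗ₜ[R] q m = 0 := by
  have hle : Submodule.span κ (TensorProduct.mk R κ M 1 '' T) ≤ LinearMap.ker (q.baseChange κ) := by
    refine Submodule.span_le.mpr ?_
    rintro _ ⟨y, hy, rfl⟩
    rw [SetLike.mem_coe, LinearMap.mem_ker, TensorProduct.mk_apply, LinearMap.baseChange_tmul, hT y hy,
      TensorProduct.tmul_zero]
  have := hle hm
  rwa [LinearMap.mem_ker, LinearMap.baseChange_tmul] at this

/-- An element of a submodule with flat quotient lying in a span on a fibre. -/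
theorem one_tmul_mem_span {κ : Type u} [CommRing κ] [Algebra S κ] [Algebra R κ] [IsScalarTower S R κ]
    (K : Submodule R (R ⊗[S] N)) (hK : Function.Injective (K.subtype.lTensor κ)) (T : Set K) (x : K)
    (hx : bc R κ N x.1 ∈ Submodule.span κ (bc R κ N '' (Subtype.val '' T))) :
    (1 : κ) ⊗ₜ[R] x ∈ Submodule.span κ (TensorProduct.mk R κ K 1 '' T) := by
  let F : κ ⊗[R] K →ₗ[κ] κ ⊗[S] N :=
    (AlgebraTensorModule.cancelBaseChange S R κ κ N).toLinearMap ∘ₗ K.subtype.baseChange κ
  have hF : ∀ y : K, F ((1 : κ) ⊗ₜ[R] y) = bc R κ N y.1 := fun y => by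
    show AlgebraTensorModule.cancelBaseChange S R κ κ N (K.subtype.baseChange κ ((1 : κ) ⊗ₜ[R] y)) = _
    rw [LinearMap.baseChange_tmul, cancel_tmul, one_smul]
    rfl
  have hFi : Function.Injective F := by
    refine (AlgebraTensorModule.cancelBaseChange S R κ κ N).injective.comp ?_
    rw [LinearMap.baseChange_eq_ltensor]
    exact hK
  have himg : F '' (TensorProduct.mk R κ K 1 '' T) = bc R κ N '' (Subtype.val '' T) := by
    rw [Set.image_image, Set.image_image]
    exact Set.image_congr fun y _ => hF y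
  rw [← himg, ← Submodule.map_span, ← hF] at hx
  obtain ⟨w, hw, hwx⟩ := hx
  rwa [← hFi hwx]

/-- An element of the kernel dies in the quotient by `E` when `E` spans the fibre of the kernel. -/
theorem one_tmul_eq_zero_of_fibre {P' : Type u} [AddCommGroup P'] [Module R P']
    {κ : Type u} [CommRing κ] [Algebra S κ] [Algebra R κ] [IsScalarTower S R κ]
    (g : R ⊗[S] N →ₗ[R] P') [Module.Flat R (LinearMap.range g)]
    {g' : κ ⊗[S] N →ₗ[κ] κ ⊗[S] P} (E : Submodule R (R ⊗[S] N))
    (hE : E ≤ LinearMap.ker g) (hfib : LinearMap.ker g' ≤ Submodule.span κ (bc R κ N '' (E : Set (R ⊗[S] N))))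
    {D : Type u} [AddCommGroup D] [Module R D] (q : LinearMap.ker g →ₗ[R] D)
    (hq : ∀ y : LinearMap.ker g, y.1 ∈ E → q y = 0) (y : LinearMap.ker g)
    (hy : bc R κ N y.1 ∈ LinearMap.ker g') : (1 : κ) ⊗ₜ[R] q y = 0 := by
  have hinj : Function.Injective ((LinearMap.ker g).subtype.lTensor κ) := ker_lTensor_injective g κ
  refine one_tmul_mk_eq_zero R κ q (Subtype.val ⁻¹' (E : Set (R ⊗[S] N))) hq y
    (one_tmul_mem_span R _ hinj _ y ?_)
  rw [Set.image_preimage_eq_of_subset (fun w hw => ⟨⟨w, hE hw⟩, rfl⟩)]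
  exact hfib hy

theorem bc_span_cspan_le {R' : Type u} [CommRing R'] [Algebra S R'] [Algebra R R'] [IsScalarTower S R R']
    (G : Set (R ⊗[S] N)) :
    Submodule.span R' (bc R R' N '' (cspan (C := C) R G : Set (R ⊗[S] N))) ≤ cspan (C := C) R' (bc R R' N '' G) := by
  refine Submodule.span_le.mpr ?_
  rintro _ ⟨x, hx, rfl⟩
  refine (?_ : cspan (C := C) R G ≤ ((cspan (C := C) R' (bc R R' N '' G)).restrictScalars R).comap (bc R R' N)) hx
  refine cspan_le R fun c g hg => ?_
  show bc R R' N (cs R c g) ∈ cspan (C := C) R' (bc R R' N '' G)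
  rw [bc_cs]
  exact cs_mem_cspan R' _ c ⟨g, hg, rfl⟩

/-- Two stable submodules of the kernel agreeing on all fibres agree. -/
theorem ker_le_of_fibres (f : N →ₗ[C] P)
    [Module.Flat R (LinearMap.range ((f.restrictScalars S).baseChange R))]
    (E : Submodule R (R ⊗[S] N)) (hE : E ≤ LinearMap.ker ((f.restrictScalars S).baseChange R))
    (hEc : ∀ c : C, ∀ x ∈ E, cs R c x ∈ E)
    (G : Finset (R ⊗[S] N)) (hG : (G : Set (R ⊗[S] N)) ⊆ LinearMap.ker ((f.restrictScalars S).baseChange R))
    (hgen : LinearMap.ker ((f.restrictScalars S).baseChange R) ≤ cspan (C := C) R G)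
    (hfib : ∀ (κ : Type u) [Field κ] [Algebra S κ] [Algebra R κ] [IsScalarTower S R κ],
      LinearMap.ker ((f.restrictScalars S).baseChange κ) ≤ Submodule.span κ (bc R κ N '' (E : Set (R ⊗[S] N)))) :
    LinearMap.ker ((f.restrictScalars S).baseChange R) ≤ E := by
  let g := (f.restrictScalars S).baseChange R
  let Kc : Submodule (R ⊗[S] C) ((R ⊗[S] C) ⊗[C] N) := LinearMap.ker (f.baseChange (R ⊗[S] C))
  haveI := finite_kerC R f G hG hgen
  let D := LinearMap.range ((toC R E hEc).mkQ ∘ₗ Kc.subtype)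
  haveI : Module.Finite (R ⊗[S] C) D := Module.Finite.range _
  let q : LinearMap.ker g →ₗ[R] D :=
    (((toC R E hEc).mkQ ∘ₗ Kc.subtype).rangeRestrict.restrictScalars R) ∘ₗ
      LinearMap.codRestrict (Kc.restrictScalars R) ((eC (C := C) R N).symm.toLinearMap ∘ₗ (LinearMap.ker g).subtype)
        (fun y => (mem_kerC R f _).mpr (by
          show eC (C := C) R N ((eC (C := C) R N).symm y.1) ∈ _
          rw [LinearEquiv.apply_symm_apply]
          exact y.2))
  have hq : ∀ y, q y = 0 ↔ y.1 ∈ E := fun y => by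
    refine Subtype.ext_iff.trans ((Submodule.Quotient.mk_eq_zero _).trans ?_)
    show eC (C := C) R N ((eC (C := C) R N).symm y.1) ∈ E ↔ _
    rw [LinearEquiv.apply_symm_apply]
  have hqs : Function.Surjective q := by
    rintro ⟨_, ⟨x, hx⟩, rfl⟩
    exact ⟨⟨eC (C := C) R N x, (mem_kerC R f x).mp hx⟩, Subtype.ext
      (congrArg Submodule.Quotient.mk ((eC (C := C) R N).symm_apply_apply x))⟩
  suffices hsub : Subsingleton D from
    fun x hx => (hq ⟨x, hx⟩).mp (hsub.elim _ _)
  refine subsingleton_of_fields (A := R) (B := R ⊗[S] C) fun κ _ _ z => ?_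
  obtain ⟨y, rfl⟩ := hqs z
  letI : Algebra S κ := ((algebraMap R κ).comp (algebraMap S R)).toAlgebra
  haveI : IsScalarTower S R κ := .of_algebraMap_eq fun _ => rfl
  exact one_tmul_eq_zero_of_fibre R g (g' := (f.restrictScalars S).baseChange κ) E hE (hfib κ) q
    (fun y hy => (hq y).mpr hy) y (bc_ker_le (R := R) (R' := κ) _ y.2)

end Actions

end Groth.Agent.GrFlatLib
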